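import Groth.Agent.ModTorsLib.Family
import Groth.Agent.S11555
import Groth.Agent.S15544
import Groth.Agent.ModifLib.Curve
import Groth.Agent.RatModLib.CompFunctions
import Groth.Agent.DimIneqLib.Dim
import Mathlib

/-!
# A uniform annihilator for families modulo `a` over all modifications
-/

set_option autoImplicit false
set_option linter.style.haveILetI false
set_option linter.unusedSectionVars false
set_option backward.isDefEq.respectTransparency false
set_option backward.isDefEq.respectTransparency.types false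
set_option maxHeartbeats 1000000

noncomputable section

universe u

open CategoryTheory CategoryTheory.Limits AlgebraicGeometry IsLocalRing

namespace ModTorsLib

open RatModLib

variable {A : Type u} [CommRing A] [IsDomain A] [IsLocalRing A] [IsNoetherianRing A] [IsIntegrallyClosed A]

/-- The data of a modification of a two-dimensional normal local ring used here. -/
structure IsModif (X : Scheme.{u}) (f : X ⟶ Spec (CommRingCat.of A)) : Prop where
  proper : IsProper f
  integral : IsIntegral X
  normal : Pi1.IsNormalScheme X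
  birat : ∃ U : (Spec (CommRingCat.of A)).Opens, (U : Set (Spec (CommRingCat.of A))).Nonempty ∧ IsIso (f ∣_ U)

variable {X : Scheme.{u}} {f : X ⟶ Spec (CommRingCat.of A)}

theorem IsModif.phi_ne_zero (hf : IsModif X f) {a : A} (ha : a ≠ 0) (x : X) : phi f x a ≠ 0 := by
  haveI := hf.proper; haveI := hf.integral
  obtain ⟨U, hU, hiso⟩ := hf.birat
  intro h0
  refine ha ((frac_surj f hU).1 ?_)
  rw [map_zero, ← phi_spec f (genericPoint_specializes x) a, h0, map_zero]

theorem IsModif.preconnected_fibre (hf : IsModif X f) : _root_.IsPreconnected (f ⁻¹' {closedPoint A}) := by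
  haveI := hf.proper; haveI := hf.integral
  obtain ⟨U, hU, hiso⟩ := hf.birat
  haveI : IsLocallyNoetherian (Spec (CommRingCat.of A)) := inferInstance
  haveI : IsIso (f.stalkMap (genericPoint X)) := ModifLib.isIso_stalkMap_genericPoint f hU
  haveI := Groth.Agent.S15544.result (ParaFLib.isNormal_spec A) f (ModifLib.map_genericPoint f hU) inferInstance
    (closedPoint A)
  rw [← f.range_fiberι (closedPoint A)]
  exact isPreconnected_range (f.fiberι _).continuous

/-- Over a point off the closed point, a modification is an isomorphism. -/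
theorem IsModif.iso_over (hf : IsModif X f) (hdim : ringKrullDim A = 2) (p : Spec (CommRingCat.of A))
    (hp : p ≠ closedPoint A) :
    ∃ x : X, f x = p ∧ (∀ x' : X, f x' = p → x' = x) ∧ IsIso (f.stalkMap x) := by
  haveI := hf.proper; haveI := hf.integral
  obtain ⟨U, hU, hiso⟩ := hf.birat
  haveI : IsIso (f.stalkMap (genericPoint X)) := ModifLib.isIso_stalkMap_genericPoint f hU
  obtain ⟨V, hV, -, hdimV⟩ := Groth.Agent.S11555.result f (ParaFLib.isNormal_spec A) (ModifLib.map_genericPoint f hU)
    (ConcreteCategory.bijective_of_isIso (f.stalkMap (genericPoint X)))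
  have hpV : p ∈ V := by
    by_contra hc
    have h2 := hdimV p hc
    rw [ringKrullDim_stalk_eq_coheight] at h2
    let c0 : Spec (CommRingCat.of A) := closedPoint A
    have hsp : p ⤳ c0 := IsLocalRing.specializes_closedPoint p
    have hlt : c0 < p := lt_of_le_not_ge (Scheme.le_iff_specializes.mpr hsp)
      fun h => hp ((Scheme.le_iff_specializes.mp h).antisymm hsp).eq.symm
    have h3 := Order.coheight_add_one_le hlt
    have h4 : (Order.coheight c0 : WithBot ℕ∞) ≤ 2 := by
      rw [← ringKrullDim_stalk_eq_coheight, ← hdim]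
      exact (DimIneqLib.stalk_dim_le_dim _).trans (le_of_eq (PrimeSpectrum.topologicalKrullDim_eq_ringKrullDim (R := A)))
    have h5 : ((2 : ℕ∞) : WithBot ℕ∞) ≤ (Order.coheight p : WithBot ℕ∞) := h2
    exact absurd ((add_le_add (WithBot.coe_le_coe.1 h5) le_rfl).trans (h3.trans (WithBot.coe_le_coe.1 h4))) (by decide)
  haveI := hV
  obtain ⟨z, hz⟩ := (f ∣_ V).surjective ⟨p, hpV⟩
  have hfz : f z.1 = p := (morphismRestrict_base_coe f V z).symm.trans (congrArg Subtype.val hz)
  refine ⟨z.1, hfz, fun x' hx' => ?_, ?_⟩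
  · have h : (f ∣_ V) ⟨x', show f x' ∈ V from hx' ▸ hpV⟩ = (f ∣_ V) z := by
      rw [hz]; exact Subtype.ext ((morphismRestrict_base_coe f V _).trans hx')
    exact congrArg Subtype.val ((f ∣_ V).isEmbedding.injective h)
  · exact (MorphismProperty.isomorphisms CommRingCat).arrow_mk_iso_iff (morphismRestrictStalkMap f V z) |>.mp
      (inferInstanceAs (IsIso ((f ∣_ V).stalkMap z)))

/-- The bijection with the localization at a prime off the closed point. -/
theorem isLocalization_phi {x : X} [IsIso (f.stalkMap x)] (P : Ideal A) [P.IsPrime]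
    (hx : (f x).asIdeal = P) : letI := (phi f x).toAlgebra; IsLocalization.AtPrime (X.presheaf.stalk x) P := by
  subst hx
  letI := (phi f x).toAlgebra
  let S := (Spec (CommRingCat.of A)).presheaf.stalk (f x)
  letI : Algebra A S := (StructureSheaf.toStalk A (f x)).hom.toAlgebra
  haveI : IsLocalization.AtPrime S (f x).asIdeal := inferInstanceAs (IsLocalization.AtPrime ((Spec.structureSheaf A).presheaf.stalk (f x)) _)
  let e : S ≃ₐ[A] X.presheaf.stalk x :=
    AlgEquiv.ofRingEquiv (f := (asIso (f.stalkMap x)).commRingCatIsoToRingEquiv) fun a =>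
      stalkMap_phi f (𝟙 _) f (Category.comp_id f) x a
  exact (IsLocalization.isLocalization_iff_of_algEquiv _ e).mp inferInstance

theorem isDVR_minimal (hdim : ringKrullDim A = 2) {a : A} (ha : a ≠ 0) {P : Ideal A} [P.IsPrime]
    (hP : P ∈ (Ideal.span {a}).minimalPrimes) :
    P.height = 1 ∧ IsDiscreteValuationRing (Localization.AtPrime P) := by
  have hle : P.height ≤ 1 := Ideal.height_le_one_of_isPrincipal_of_mem_minimalPrimes _ P hP
  have hne : P.height ≠ 0 := fun h0 => by
    have h1 := Ideal.height_eq_zero_iff.mp h0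
    rw [IsDomain.minimalPrimes_eq_singleton_bot, Set.mem_singleton_iff] at h1
    exact ha (Ideal.span_singleton_eq_bot.mp (le_bot_iff.mp (hP.1.2.trans h1.le)))
  have h1 : P.height = 1 := le_antisymm hle (Order.one_le_iff_pos.mpr (pos_iff_ne_zero.mpr hne))
  refine ⟨h1, ?_⟩
  let D := Localization.AtPrime P
  haveI : IsIntegrallyClosed D := isIntegrallyClosed_of_isLocalization D _ P.primeCompl_le_nonZeroDivisors
  have hd : ringKrullDim D = 1 := by rw [IsLocalization.AtPrime.ringKrullDim_eq_height P, h1]; rfl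
  have hnF : ¬ IsField D := fun h => by
    rw [ringKrullDim_eq_zero_of_isField h] at hd
    exact zero_ne_one hd
  haveI : Ring.KrullDimLE 1 D := Ring.krullDimLE_iff.mpr hd.le
  exact ((IsDiscreteValuationRing.TFAE _ hnF).out 3 0 :
    (IsIntegrallyClosed D ∧ ∃! Q : Ideal D, Q ≠ ⊥ ∧ Q.IsPrime) ↔ IsDiscreteValuationRing D).1 ⟨inferInstance,
      maximalIdeal _, ⟨fun h => hnF (isField_iff_maximalIdeal_eq.2 h), inferInstance⟩, fun Q ⟨hQ, hp⟩ =>
        IsLocalRing.eq_maximalIdeal (hp.isMaximal_of_ne_bot hQ)⟩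

theorem exists_uniform_annihilator (hN : CAlg.IsNagata A) (hdim : ringKrullDim A = 2) {a : A} (ha : a ≠ 0)
    (hamax : a ∈ maximalIdeal A) :
    ∃ c : A, (∀ P ∈ (Ideal.span {a}).minimalPrimes, c ∉ P) ∧
      ∀ (X : Scheme.{u}) (f : X ⟶ Spec (CommRingCat.of A)), IsModif X f →
        (∀ s, IsFam f a s → (∀ x, phi f x a ∣ phi f x c * s x) → ∀ x, phi f x a ∣ s x) ∧
        ∀ s : ∀ x : X, X.presheaf.stalk x, IsFam f a s →
          ∃ α : A, ∀ x, phi f x a ∣ phi f x c * s x - phi f x α := by
  classical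
  let S := (Ideal.span {a}).minimalPrimes
  haveI : Finite S := (Ideal.finite_minimalPrimes_of_isNoetherianRing A _).to_subtype
  let P : S → Ideal A := fun i => i.1
  haveI hPp : ∀ i, (P i).IsPrime := fun i => i.2.1.1
  haveI hDVR : ∀ i, IsDiscreteValuationRing (Localization.AtPrime (P i)) := fun i => (isDVR_minimal hdim ha i.2).2
  obtain ⟨N, c, hN0, hc, huni⟩ := exists_uniform hN ha P (fun i => i.2.1.2 (Ideal.mem_span_singleton_self a))
    (fun i k hle => Subtype.ext (le_antisymm hle (k.2.2 i.2.1 hle)))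
  refine ⟨c, fun Q hQ => hc ⟨Q, hQ⟩, fun X f hf => ?_⟩
  haveI := hf.proper; haveI := hf.integral
  have hn := hf.normal
  haveI : IsLocallyNoetherian X := LocallyOfFiniteType.isLocallyNoetherian f
  haveI : CompactSpace X := QuasiCompact.compactSpace_of_compactSpace f
  haveI : IsNoetherian X := {}
  have hphi := hf.phi_ne_zero ha
  have hconn := hf.preconnected_fibre
  -- the points over the primes
  have hpt : ∀ i : S, ∃ x : X, (f x).asIdeal = P i ∧ (∀ x' : X, f x' = f x → x' = x) ∧ IsIso (f.stalkMap x) ∧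
      f x ≠ closedPoint A := by
    intro i
    let p : Spec (CommRingCat.of A) := (⟨P i, inferInstance⟩ : PrimeSpectrum A)
    have hp : p ≠ closedPoint A := fun h => by
      have hi : P i = maximalIdeal A := congrArg PrimeSpectrum.asIdeal h
      have h1 := (isDVR_minimal hdim ha i.2).1
      rw [show i.1 = P i from rfl, hi] at h1
      have h2 := IsLocalRing.maximalIdeal_height_eq_ringKrullDim (R := A)
      rw [h1, hdim] at h2
      exact absurd (show ((1 : ℕ∞) : WithBot ℕ∞) = ((2 : ℕ∞) : WithBot ℕ∞) from h2) (by decide)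
    obtain ⟨x, hx, huniq, hiso⟩ := hf.iso_over hdim p hp
    exact ⟨x, congrArg PrimeSpectrum.asIdeal hx, fun x' h => huniq x' (h.trans hx), hiso, fun h => hp (hx.symm.trans h)⟩
  choose pt hptP hptu hptiso hptc using hpt
  have hloc : ∀ i, letI := (phi f (pt i)).toAlgebra; IsLocalization.AtPrime (X.presheaf.stalk (pt i)) (P i) := fun i => by
    haveI := hptiso i; exact isLocalization_phi (P i) (hptP i)
  let σ : ∀ i, Localization.AtPrime (P i) ≃+* X.presheaf.stalk (pt i) := fun i =>
    letI := (phi f (pt i)).toAlgebra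
    haveI := hloc i
    (IsLocalization.algEquiv (P i).primeCompl (Localization.AtPrime (P i)) (X.presheaf.stalk (pt i))).toRingEquiv
  have hσ : ∀ i b, σ i (algebraMap A _ b) = phi f (pt i) b := fun i b => by
    letI := (phi f (pt i)).toAlgebra
    haveI := hloc i
    exact AlgEquiv.commutes _ b
  have hσ' : ∀ i b, (σ i).symm (phi f (pt i) b) = algebraMap A _ b := fun i b => by
    rw [← hσ i b, RingEquiv.symm_apply_apply]
  have hmem : ∀ i, phi f (pt i) a ∈ maximalIdeal (X.presheaf.stalk (pt i)) := fun i => by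
    letI := (phi f (pt i)).toAlgebra
    haveI := hloc i
    exact (IsLocalization.AtPrime.to_map_mem_maximal_iff (X.presheaf.stalk (pt i)) (P i) a).mpr
      (i.2.1.2 (Ideal.mem_span_singleton_self a))
  have hstrict : ∀ x : X, Order.coheight x = 1 → phi f x a ∈ maximalIdeal (X.presheaf.stalk x) →
      f x ≠ closedPoint A → ∃ i, x = pt i := by
    intro x hx1 hxa hxc
    obtain ⟨x', hx', huniq, hiso⟩ := hf.iso_over hdim (f x) hxc
    obtain rfl : x = x' := huniq x rfl
    letI := (phi f x).toAlgebra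
    haveI := isLocalization_phi (f := f) (x := x) (f x).asIdeal rfl
    have hht : (f x).asIdeal.height = 1 := by
      have h1 := IsLocalization.AtPrime.ringKrullDim_eq_height (f x).asIdeal (X.presheaf.stalk x)
      rw [ringKrullDim_stalk_eq_coheight, hx1] at h1
      exact (WithBot.coe_inj.mp h1).symm
    have haP : a ∈ (f x).asIdeal := (IsLocalization.AtPrime.to_map_mem_maximal_iff (X.presheaf.stalk x) (f x).asIdeal a).mp hxa
    obtain ⟨Q, hQ, hQle⟩ := Ideal.exists_minimalPrimes_le ((Ideal.span_singleton_le_iff_mem _).mpr haP)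
    haveI hQp : Q.IsPrime := hQ.1.1
    have hQeq : Q = (f x).asIdeal := by
      by_contra hne
      have h2 := Ideal.height_strict_mono_of_isPrime (lt_of_le_of_ne hQle hne)
      rw [(isDVR_minimal hdim ha hQ).1, hht] at h2
      exact lt_irrefl _ h2
    exact ⟨⟨Q, hQ⟩, hptu _ x (PrimeSpectrum.ext ((hptP ⟨Q, hQ⟩).trans hQeq).symm)⟩
  have hne : ∃ y : X, Order.coheight y = 1 ∧ phi f y a ∈ maximalIdeal (X.presheaf.stalk y) ∧ f y ≠ closedPoint A := by
    obtain ⟨Q, hQ⟩ := Ideal.nonempty_minimalPrimes (I := Ideal.span {a})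
      (fun h => (maximalIdeal.isMaximal A).ne_top (top_le_iff.mp (h ▸ (Ideal.span_singleton_le_iff_mem _).mpr hamax)))
    haveI hQp : Q.IsPrime := hQ.1.1
    refine ⟨pt ⟨Q, hQ⟩, ?_, hmem _, hptc _⟩
    have h1 : ringKrullDim (X.presheaf.stalk (pt ⟨Q, hQ⟩)) = ringKrullDim (Localization.AtPrime (P ⟨Q, hQ⟩)) :=
      (ringKrullDim_eq_of_ringEquiv (σ _)).symm
    rw [ringKrullDim_stalk_eq_coheight, IsLocalization.AtPrime.ringKrullDim_eq_height (P ⟨Q, hQ⟩),
      show (P ⟨Q, hQ⟩).height = 1 from (isDVR_minimal hdim ha hQ).1] at h1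
    exact WithBot.coe_inj.mp h1
  obtain ⟨L₀, hL₀, hmult⟩ := exists_multiple f hn hphi
  let L := N * L₀
  have hLm : ∀ x : X, Order.coheight x = 1 → phi f x a ∈ maximalIdeal (X.presheaf.stalk x) →
      ∃ m, m ∣ L ∧ maximalIdeal (X.presheaf.stalk x) ^ m = Ideal.span {phi f x a} := fun x h1 h2 =>
    let ⟨m, h3, h4⟩ := hmult x h1 h2; ⟨m, h3.trans (dvd_mul_left _ _), h4⟩
  have hkey := fun s (hs : IsFam f a s) => key f hn hconn hphi hamax hne hLm hs
  have hfull : ∀ s, IsFam f a s → (∀ i, phi f (pt i) a ∣ s (pt i)) → ∀ x, phi f x a ∣ s x := fun s hs h x => by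
    haveI := (hn x).1; haveI := (hn x).2
    refine (IsIntegrallyClosed.pow_dvd_pow_iff (Nat.mul_pos hN0 hL₀).ne').mp (hkey s hs L le_rfl (fun z h1 h2 h3 => ?_) x)
    obtain ⟨i, rfl⟩ := hstrict z h1 h2 h3
    exact pow_dvd_pow_of_dvd (h i) L
  refine ⟨fun s hs hcs => hfull s hs fun i => ?_, fun s hs => ?_⟩
  · have hu : IsUnit (phi f (pt i) c) := by
      rw [← hσ i c]
      exact (IsLocalization.map_units (Localization.AtPrime (P i)) (⟨c, hc i⟩ : (P i).primeCompl)).map (σ i).toRingHom
    exact (hu.dvd_mul_left).mp (hcs (pt i))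
  let G : Tup P → Prop := fun y => ∃ t, IsFam f a t ∧ ∀ i, y i = (σ i).symm (t (pt i))
  have hG1 : ∀ y, G y → ∀ c' α : A, G fun i => algebraMap A _ c' * y i - algebraMap A _ α := by
    rintro y ⟨t, ht, hy⟩ c' α
    refine ⟨fun x => phi f x c' * t x - phi f x α, fun x z h => ?_, fun i => ?_⟩
    · obtain ⟨d, hd⟩ := ht x z h
      refine ⟨phi f z c' * d, ?_⟩
      rw [map_sub, map_mul, phi_spec, phi_spec]
      linear_combination (phi f z c') * hd
    · show _ = (σ i).symm _
      beta_reduce
      rw [hy i, map_sub, map_mul, hσ', hσ']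
  have hG2 : ∀ y, G y → ∀ j < N, (∀ i, algebraMap A _ a ^ j ∣ y i ^ N) →
      ∀ i h, h * algebraMap A _ a ^ j = y i ^ N → IsIntegral A (residue (Localization.AtPrime (P i)) h) := by
    rintro y ⟨t, ht, hy⟩ j hj hdvd i h hh
    have hall : ∀ x, phi f x a ^ j ∣ t x ^ N := fun x => by
      haveI := (hn x).1; haveI := (hn x).2
      refine (IsIntegrallyClosed.pow_dvd_pow_iff hL₀.ne').mp ?_
      rw [← pow_mul, ← pow_mul]
      refine hkey t ht (j * L₀) (Nat.mul_le_mul_right L₀ hj.le) (fun z h1 h2 h3 => ?_) x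
      obtain ⟨k, rfl⟩ := hstrict z h1 h2 h3
      rw [pow_mul, pow_mul]
      have := map_dvd (σ k) (hdvd k)
      rw [map_pow, map_pow, hσ, hy, RingEquiv.apply_symm_apply] at this
      exact pow_dvd_pow_of_dvd this L₀
    choose hh' hhh using hall
    have hint := leading_integral f hn hphi ht hj (h := hh') (fun x => by rw [hhh x, mul_comm]) (pt i) (hmem i)
    have hheq : σ i h = hh' (pt i) := by
      haveI := (hn (pt i)).1
      refine mul_right_cancel₀ (pow_ne_zero j (hphi (pt i))) ?_
      rw [← hσ i a, ← map_pow, ← map_mul, hh, hy i, map_pow, RingEquiv.apply_symm_apply, hhh (pt i), mul_comm, map_pow, hσ]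
    let e : X.residueField (pt i) ≃+* ResidueField (Localization.AtPrime (P i)) := IsLocalRing.ResidueField.mapEquiv (σ i).symm
    obtain ⟨q, hq, hq0⟩ := hint
    refine ⟨q, hq, ?_⟩
    have h1 := congrArg e.toRingHom hq0
    rw [map_zero, Polynomial.hom_eval₂] at h1
    have e1 : e.toRingHom.comp ((X.residue (pt i)).hom.comp (phi f (pt i))) = algebraMap A (ResidueField (Localization.AtPrime (P i))) := by
      ext b
      show residue _ ((σ i).symm (phi f (pt i) b)) = _
      rw [hσ']; rfl
    have e2 : e.toRingHom (X.residue (pt i) (hh' (pt i))) = residue _ h := by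
      show residue _ ((σ i).symm (hh' (pt i))) = _
      rw [← hheq, RingEquiv.symm_apply_apply]
    rw [e1, e2] at h1
    exact h1
  obtain ⟨α, hα⟩ := huni G hG1 hG2 _ ⟨s, hs, fun _ => rfl⟩
  refine ⟨α, hfull (fun x => phi f x c * s x - phi f x α) (fun x z h => ?_) fun i => ?_⟩
  · obtain ⟨d, hd⟩ := hs x z h
    refine ⟨phi f z c * d, ?_⟩
    rw [map_sub, map_mul, phi_spec, phi_spec]
    linear_combination (phi f z c) * hd
  · have := map_dvd (σ i) (hα i)
    rwa [map_sub, map_mul, hσ, hσ, hσ, RingEquiv.apply_symm_apply] at this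

end ModTorsLib
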