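import Groth.Agent.ModTorsLib.H1Inj
import Groth.Agent.RelDualCMLib.TopPull
import Groth.Agent.KiehlLib.ExtFin
import Groth.Agent.KFlatLib.PullKFlat
import Groth.Agent.QRlimLib.Unbounded
import Groth.Agent.Dual3Lib.EvalSpec
import Mathlib

/-!
# No maps from the residue field, shifted down, to the direct image of the structure sheaf
-/

set_option autoImplicit false
set_option linter.style.haveILetI false
set_option linter.unusedSectionVars false
set_option backward.isDefEq.respectTransparency false
set_option backward.isDefEq.respectTransparency.types false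
set_option maxHeartbeats 2000000
set_option synthInstance.maxHeartbeats 200000

universe u

open CategoryTheory CategoryTheory.Limits CategoryTheory.Pretriangulated AlgebraicGeometry IsLocalRing
open Groth.Agent

attribute [local instance] HasDerivedCategory.standard

noncomputable section

namespace ModTorsLib

open RatModLib

section Pull

variable {X Y : Scheme.{u}} (f : X ⟶ Y)

theorem pullback_map_smulModΓ (M : Y.Modules) (r : Coh.Γtop Y) :
    (Scheme.Modules.pullback f).map (Formal.smulModΓ M r) =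
      Formal.smulModΓ ((Scheme.Modules.pullback f).obj M) (f.appTop r) := by
  apply ((Scheme.Modules.pullbackPushforwardAdjunction f).homEquiv _ _).injective
  rw [Adjunction.homEquiv_unit, Adjunction.homEquiv_unit]
  refine ((Scheme.Modules.pullbackPushforwardAdjunction f).unit.naturality (Formal.smulModΓ M r)).symm.trans ?_
  refine ((KLin.comp_smulModΓ _ r).symm).trans ?_
  refine congrArg (_ ≫ ·) ?_
  refine Scheme.Modules.hom_ext _ _ fun U => ConcreteCategory.hom_ext _ _ fun m => ?_
  let m' : Γ((Scheme.Modules.pullback f).obj M, f ⁻¹ᵁ U) := m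
  show (f.app U (Y.presheaf.map (homOfLE (le_top : U ≤ ⊤)).op r)) • m' =
    X.presheaf.map (homOfLE (le_top : f ⁻¹ᵁ U ≤ ⊤)).op (f.appTop r) • m'
  refine congrArg (· • m') ?_
  exact congrArg (fun g => g.hom r) (f.naturality (homOfLE (le_top : U ≤ ⊤)).op)

end Pull

variable {A : Type u} [CommRing A] [IsDomain A] [IsLocalRing A] [IsNoetherianRing A] [IsIntegrallyClosed A]

/-- Maps from the pullback of the residue field to `O/b` vanish. -/
theorem hom_pullback_residue_eq_zero {X : Scheme.{u}} [X.Over (Spec (CommRingCat.of A))]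
    (hf : IsModif X (X ↘ Spec (CommRingCat.of A))) (hdim : ringKrullDim A = 2) {b : A} (hb : b ≠ 0)
    (hbm : b ∈ maximalIdeal A) [PreservesFiniteLimits (tilde.functor (CommRingCat.of A))]
    (g : (Scheme.Modules.pullback (X ↘ Spec (CommRingCat.of A))).obj
      (tilde (R := CommRingCat.of A) (ModuleCat.of A (ResidueField A))) ⟶ (TT (X := X) b).X₃) : g = 0 := by
  let S := Spec (CommRingCat.of A)
  let f := X ↘ S
  let N := tilde (R := CommRingCat.of A) (ModuleCat.of A (ResidueField A))
  let T := (TT (X := X) b).X₃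
  let adj := Scheme.Modules.pullbackPushforwardAdjunction f
  let h := adj.homEquiv _ _ g
  suffices hh : h = 0 by
    refine (adj.homEquiv _ _).injective (hh.trans ?_)
    rw [Adjunction.homEquiv_unit]
    exact (by rw [Functor.map_zero, comp_zero] : (0 : N ⟶ _) = adj.unit.app N ≫ (Scheme.Modules.pushforward f).map (0 : _ ⟶ T)).trans rfl
  have hkill : ∀ r ∈ maximalIdeal A, Formal.smulModΓ N ((Scheme.ΓSpecIso (CommRingCat.of A)).inv.hom r) = 0 := by
    intro r hr
    rw [show Formal.smulModΓ N _ = _ from (Dual3Lib.tilde_map_smul (ModuleCat.of A (ResidueField A)) r).symm]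
    have : ModuleCat.ofHom (r • LinearMap.id : ResidueField A →ₗ[A] ResidueField A) = 0 := ModuleCat.hom_ext (LinearMap.ext fun q => by
      show r • q = 0
      rw [Algebra.smul_def, show algebraMap A (ResidueField A) r = 0 from Ideal.Quotient.eq_zero_iff_mem.mpr hr, zero_mul])
    rw [this, Functor.map_zero]
  have happ : ∀ m : Γ(N, ⊤), h.app ⊤ m = 0 := by
    intro m
    let z : Γ(T, ⊤) := h.app ⊤ m
    obtain ⟨z', hz'⟩ := (DegPullLib.e0 T).surjective z
    obtain ⟨s, hs, hsfam⟩ := exists_fam hf hb z'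
    have hstrict : ∀ x : X, f x ≠ closedPoint A → phi f x b ∣ s x := by
      intro x hx
      rw [← smul_eQ_eq_zero_iff hf hb, ← hs]
      obtain ⟨r, hr, hrx⟩ := SetLike.exists_of_lt (lt_of_le_of_ne (le_maximalIdeal (f x).isPrime.ne_top)
        fun e => hx (PrimeSpectrum.ext e))
      have hu : IsUnit (phi f x r) := by
        by_contra hc
        have h1 : Spec.map (CommRingCat.ofHom (phi f x)) (closedPoint _) = f x := by
          rw [← fromSpecStalk_comp, Scheme.Hom.comp_apply]; erw [Scheme.fromSpecStalk_closedPoint]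
        exact hrx ((congrArg PrimeSpectrum.asIdeal h1).le ((mem_maximalIdeal _).mpr hc))
      have h2 : h.app ⊤ ((Formal.smulModΓ N ((Scheme.ΓSpecIso (CommRingCat.of A)).inv.hom r)).app ⊤ m) = 0 := by
        rw [hkill r hr]
        exact map_zero (h.app ⊤).hom
      have h3 : phi f x r • T.presheaf.germ ⊤ x trivial z = 0 := by
        refine (AmpleLib.germ_smul T (W := ⊤) (Coh.toGlobal f r) z (x := x) trivial).symm.trans ?_
        refine (congrArg (T.presheaf.germ ⊤ x trivial) ?_).trans (map_zero _)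
        refine Eq.trans ?_ h2
        rw [KLin.smulModΓ_app_apply, Scheme.Modules.Hom.app_smul]
        show (show Γ(X, ⊤) from Coh.toGlobal f r) • z = (show Γ(X, ⊤) from f.app ⊤ (S.presheaf.map (homOfLE (le_top : (⊤ : S.Opens) ≤ ⊤)).op
          ((Scheme.ΓSpecIso (CommRingCat.of A)).inv.hom r))) • z
        rw [show S.presheaf.map (homOfLE (le_top : (⊤ : S.Opens) ≤ ⊤)).op
          ((Scheme.ΓSpecIso (CommRingCat.of A)).inv.hom r) = (Scheme.ΓSpecIso (CommRingCat.of A)).inv.hom r from
            AmpleLib.res_refl (M := Coh.structureModule S) _]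
        rfl
      rw [gq, hz']
      exact (hu.smul_eq_zero).mp h3
    have hall := fam_zero_of_strict hf hdim hb hbm hsfam hstrict
    show z = 0
    rw [← hz', show z' = 0 from section_ext b fun x => by
      rw [hs, (smul_eQ_eq_zero_iff hf hb x _).mpr (hall x), gq, map_zero, map_zero]]
    exact map_zero _
  refine ((tilde.adjunction (R := CommRingCat.of A)).homEquiv _ _).injective ?_
  rw [Adjunction.homEquiv_unit, Adjunction.homEquiv_unit]
  refine congrArg (_ ≫ ·) (ModuleCat.hom_ext (LinearMap.ext fun m => ?_))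
  exact happ m

theorem hom_shift_residue_eq_zero (hdim : ringKrullDim A = 2) {X : Scheme.{u}} (f : X ⟶ Spec (CommRingCat.of A))
    (hf : IsModif X f) [PreservesFiniteLimits (tilde.functor (CommRingCat.of A))] [DCoh.HasRpush f] :
    Subsingleton ((((DCoh.tildeD (CommRingCat.of A)).obj (Dual.inD A (ResidueField A)))⟦(-1 : ℤ)⟧) ⟶
      (DCoh.Rpush f).obj (DCoh.inD X (Coh.structureModule X))) := by
  let S := Spec (CommRingCat.of A)
  letI : X.Over S := ⟨f⟩
  letI : S.Over S := ⟨𝟙 S⟩
  haveI : f.IsOver S := ⟨Category.comp_id f⟩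
  haveI : DCoh.HasLpull f := KFlatLib.hasLpull f
  haveI := hf.proper
  obtain ⟨_, _⟩ := QRlimLib.exists_isTriangulated_rpush f
  let adj := KFlatLib.lpullRpushAdj f
  haveI : (DCoh.Lpull f).Additive := adj.left_adjoint_additive
  obtain ⟨b, hbm, hb⟩ : ∃ b ∈ maximalIdeal A, b ≠ 0 := Submodule.exists_mem_ne_zero_of_ne_bot fun h => by
    rw [ringKrullDim_eq_zero_of_isField (isField_iff_maximalIdeal_eq.2 h)] at hdim
    exact absurd hdim (by decide)
  let N := tilde (R := CommRingCat.of A) (ModuleCat.of A (ResidueField A))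
  let K := DCoh.inD S N
  let O := Coh.structureModule X
  let P := (DCoh.Lpull f).obj K
  haveI hKle : K.IsLE 0 := inferInstance
  haveI : P.IsLE 0 := KiehlLib.isLE_lpull f K 0
  have hK : b • 𝟙 K = 0 := by
    have h0 : Formal.smulModΓ N ((Scheme.ΓSpecIso (CommRingCat.of A)).inv.hom b) = 0 := by
      rw [show Formal.smulModΓ N _ = _ from (Dual3Lib.tilde_map_smul (ModuleCat.of A (ResidueField A)) b).symm]
      have : ModuleCat.ofHom (b • LinearMap.id : ResidueField A →ₗ[A] ResidueField A) = 0 := ModuleCat.hom_ext (LinearMap.ext fun q => by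
        show b • q = 0
        rw [Algebra.smul_def, show algebraMap A (ResidueField A) b = 0 from Ideal.Quotient.eq_zero_iff_mem.mpr hbm, zero_mul])
      rw [this, Functor.map_zero]
    have h1 : b • 𝟙 N = 0 := by
      rw [KLin.smul_id, show Formal.smulMod A N b = Formal.smulModΓ N (Coh.toGlobal (𝟙 S) b) from rfl]
      rw [show Coh.toGlobal (𝟙 S) b = (Scheme.ΓSpecIso (CommRingCat.of A)).inv.hom b from rfl]
      exact h0
    have := congrArg (DerivedCategory.singleFunctor S.Modules 0).map h1
    rw [Functor.map_smul, CategoryTheory.Functor.map_id, Functor.map_zero] at this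
    exact this
  have hP : b • 𝟙 P = 0 := by
    obtain ⟨K₀, ⟨e₀⟩⟩ : ∃ K₀, Nonempty (DCoh.toD S K₀ ≅ K) := ⟨_, ⟨DerivedCategory.Q.objObjPreimageIso K⟩⟩
    have hLE : K₀.IsLE 0 := by
      rw [CochainComplex.isLE_iff]
      intro i hi
      rw [HomologicalComplex.exactAt_iff_isZero_homology, ← KFlatLib.isZero_HD_iff e₀]
      exact DerivedCategory.isZero_of_isLE K 0 i hi
    haveI : QuasiIso (K₀.ιTruncLE 0) := (CochainComplex.quasiIso_ιTruncLE_iff K₀ 0).mpr hLE
    obtain ⟨L, α, hL, hflat, hα⟩ := KFlatLib.exists_flat_resolution (K₀.truncLE 0) 0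
      (fun i hi => CochainComplex.isZero_of_isStrictlyLE _ 0 i hi)
    let e : DCoh.toD S L ≅ K := asIso (DerivedCategory.Q.map (α ≫ K₀.ιTruncLE 0)) ≪≫ e₀
    have h1 : b • 𝟙 (DerivedCategory.Q.obj L) = 0 := by
      have h3 : e.hom ≫ (b • 𝟙 K) ≫ e.inv = b • 𝟙 (DerivedCategory.Q.obj L) := by
        rw [Linear.smul_comp, Category.id_comp, Linear.comp_smul, Iso.hom_inv_id]
      rw [← h3, hK, zero_comp, comp_zero]
    have h2 := KiehlLib.lpull_map_smul_id (A := A) f L (KFlatLib.isKFlat_of_bounded_flat_mod L 0 hL hflat) b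
    rw [h1, Functor.map_zero] at h2
    have h4 : ((DCoh.Lpull f).mapIso e).inv ≫ (b • 𝟙 ((DCoh.Lpull f).obj (DerivedCategory.Q.obj L))) ≫
        ((DCoh.Lpull f).mapIso e).hom = b • 𝟙 P := by
      rw [Linear.smul_comp, Category.id_comp, Linear.comp_smul, Iso.inv_hom_id]
    rw [← h4, ← h2, zero_comp, comp_zero]
  -- morphisms from the derived pullback
  have hmain : ∀ φ : P ⟶ (DCoh.inD X O)⟦(1 : ℤ)⟧, φ = 0 := by
    intro φ
    have hT := shortExact_TT hf hb
    have hμ : (TT (X := X) b).f = b • 𝟙 O := (KLin.smul_id (A := A) O b).symm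
    have hφ : φ ≫ ((DerivedCategory.singleFunctor X.Modules 0).map (TT (X := X) b).f)⟦(1 : ℤ)⟧' = 0 := by
      rw [hμ, Functor.map_smul, CategoryTheory.Functor.map_id, Functor.map_smul, CategoryTheory.Functor.map_id,
        Linear.comp_smul, Category.comp_id, ← Category.id_comp φ, ← Linear.smul_comp, hP, zero_comp]
    obtain ⟨g, hg⟩ := Triangle.coyoneda_exact₃ hT.singleTriangle.rotate
      (rot_of_distTriang _ hT.singleTriangle_distinguished) φ (by
        show φ ≫ (-((DerivedCategory.singleFunctor X.Modules 0).map (TT (X := X) b).f)⟦(1 : ℤ)⟧') = 0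
        rw [Preadditive.comp_neg, hφ, neg_zero])
    obtain ⟨eH⟩ := RelDualCMLib.nonempty_HD_lpull_top f K 0
    have hg0 : g = 0 := by
      refine KiehlLib.eq_zero_of_homology P 0 _ g ?_
      let eT : DCoh.HD (DCoh.inD X (TT (X := X) b).X₃) 0 ≅ (TT (X := X) b).X₃ :=
        (DerivedCategory.singleFunctorCompHomologyFunctorIso X.Modules 0).app _
      let eN : DCoh.HD K 0 ≅ N := (DerivedCategory.singleFunctorCompHomologyFunctorIso S.Modules 0).app _
      let ee := eH ≪≫ (Scheme.Modules.pullback f).mapIso eN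
      have h0 := hom_pullback_residue_eq_zero hf hdim hb hbm
        (ee.inv ≫ (DerivedCategory.homologyFunctor X.Modules 0).map g ≫ eT.hom)
      have := congrArg (fun w => ee.hom ≫ w ≫ eT.inv) h0
      simpa using this
    rw [hg, hg0]
    exact zero_comp
  refine ⟨fun φ ψ => ?_⟩
  suffices key : ∀ φ : (((DCoh.tildeD (CommRingCat.of A)).obj (Dual.inD A (ResidueField A)))⟦(-1 : ℤ)⟧) ⟶
      (DCoh.Rpush f).obj (DCoh.inD X (Coh.structureModule X)), φ = 0 by rw [key φ, key ψ]
  intro φ
  apply (shiftFunctor (DCoh.D S) (1 : ℤ)).map_injective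
  let e0 : (DCoh.tildeD (CommRingCat.of A)).obj (Dual.inD A (ResidueField A)) ≅ K :=
    ((tilde.functor (CommRingCat.of A)).mapDerivedCategorySingleFunctor 0).app _
  let e1 := e0.symm ≪≫ ((shiftFunctorCompIsoId (DCoh.D S) (-1 : ℤ) 1 (by norm_num)).app
    ((DCoh.tildeD (CommRingCat.of A)).obj (Dual.inD A (ResidueField A)))).symm
  let e2 := ((DCoh.Rpush f).commShiftIso (1 : ℤ)).app (DCoh.inD X (Coh.structureModule X))
  let ψ : K ⟶ (DCoh.Rpush f).obj ((DCoh.inD X O)⟦(1 : ℤ)⟧) := e1.hom ≫ φ⟦(1 : ℤ)⟧' ≫ e2.inv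
  have hψ : ψ = 0 := by
    refine (adj.homEquiv _ _).symm.injective ?_
    exact (hmain _).trans (hmain _).symm
  rw [Functor.map_zero, ← cancel_epi e1.hom, comp_zero, ← cancel_mono e2.inv, zero_comp, Category.assoc]
  exact hψ

end ModTorsLib
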