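import Groth.Agent.CycDivLib.Pull
import Groth.Agent.NormalLib.Serre
import Groth.Prelude.Def_Pi1
import Mathlib

/-!
# Divisibility in the local rings of a normal scheme is seen in height one
-/

set_option autoImplicit false
set_option linter.style.haveILetI false
set_option backward.isDefEq.respectTransparency false
set_option backward.isDefEq.respectTransparency.types false

noncomputable section

universe u

open CategoryTheory AlgebraicGeometry IsLocalRing

namespace ModTorsLib

variable {X : Scheme.{u}}

theorem stalkSpecializes_injective [IsIntegral X] {x y : X} (h : y ⤳ x) :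
    Function.Injective (X.presheaf.stalkSpecializes h).hom := by
  intro a b hab
  refine IsFractionRing.injective (X.presheaf.stalk x) X.functionField ?_
  have e := TopCat.Presheaf.stalkSpecializes_comp X.presheaf ((genericPoint_spec X).specializes (Set.mem_univ y)) h
  show X.presheaf.stalkSpecializes _ a = X.presheaf.stalkSpecializes _ b
  erw [← e]
  show (X.presheaf.stalkSpecializes _).hom ((X.presheaf.stalkSpecializes h).hom a) =
    (X.presheaf.stalkSpecializes _).hom ((X.presheaf.stalkSpecializes h).hom b)
  rw [hab]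

theorem coheight_eq_one_iff_dvr [IsIntegral X] [IsLocallyNoetherian X] (hX : Pi1.IsNormalScheme X) (z : X)
    (hz : Order.coheight z = 1) : IsDiscreteValuationRing (X.presheaf.stalk z) := by
  haveI := (hX z).2
  haveI : Ring.KrullDimLE 1 (X.presheaf.stalk z) := krullDimLE_of_coheight_le hz.le
  have hd : ringKrullDim (X.presheaf.stalk z) = 1 := by
    rw [ringKrullDim_stalk_eq_coheight, hz]; rfl
  have hnF : ¬ IsField (X.presheaf.stalk z) := fun h => by
    rw [ringKrullDim_eq_zero_of_isField h] at hd
    exact zero_ne_one hd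
  exact ((IsDiscreteValuationRing.TFAE _ hnF).out 3 0 :
    (IsIntegrallyClosed (X.presheaf.stalk z) ∧ ∃! P : Ideal (X.presheaf.stalk z), P ≠ ⊥ ∧ P.IsPrime) ↔
      IsDiscreteValuationRing (X.presheaf.stalk z)).1 ⟨inferInstance, maximalIdeal _,
    ⟨fun h => hnF (isField_iff_maximalIdeal_eq.2 h), inferInstance⟩, fun P ⟨hP, hp⟩ =>
      IsLocalRing.eq_maximalIdeal (hp.isMaximal_of_ne_bot hP)⟩

theorem dvd_of_forall_coheight_one [IsIntegral X] [IsLocallyNoetherian X] (hX : Pi1.IsNormalScheme X) (x : X)
    (a b : X.presheaf.stalk x) (ha : a ≠ 0)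
    (H : ∀ (y : X) (h : y ⤳ x), Order.coheight y = 1 →
      (X.presheaf.stalkSpecializes h).hom a ∈ maximalIdeal (X.presheaf.stalk y) →
      (X.presheaf.stalkSpecializes h).hom a ∣ (X.presheaf.stalkSpecializes h).hom b) : a ∣ b := by
  haveI := (hX x).2
  refine NormalLib.dvd_of_forall_associatedPrimes fun P hP => ?_
  haveI : P.IsPrime := hP.isPrime
  let q : PrimeSpectrum (X.presheaf.stalk x) := ⟨P, inferInstance⟩
  let y := X.fromSpecStalk x q
  have hyx : y ⤳ x := by
    have := (IsLocalRing.specializes_closedPoint q).map (X.fromSpecStalk x).continuous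
    rwa [Scheme.fromSpecStalk_closedPoint] at this
  have hPy : CycDivLib.primeOf hyx = q :=
    (X.fromSpecStalk x).isEmbedding.injective (CycDivLib.stalkPt_primeOf hyx)
  letI := (X.presheaf.stalkSpecializes hyx).hom.toAlgebra
  haveI : IsLocalization.AtPrime (X.presheaf.stalk y) P := by
    have := CycDivLib.isLocalization_stalkSpecializes hyx
    rw [hPy] at this
    exact this
  have hc : Order.coheight y = 1 := by
    have h1 : (Order.coheight y : WithBot ℕ∞) = (P.height : WithBot ℕ∞) := by
      rw [← ringKrullDim_stalk_eq_coheight, IsLocalization.AtPrime.ringKrullDim_eq_height P (X.presheaf.stalk y)]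
    rw [NormalLib.height_eq_one_of_mem_associatedPrimes ha hP] at h1
    exact WithBot.coe_inj.mp h1
  have hamem : algebraMap _ (X.presheaf.stalk y) a ∈ maximalIdeal (X.presheaf.stalk y) := by
    rw [IsLocalization.AtPrime.to_map_mem_maximal_iff (X.presheaf.stalk y) P]
    exact NormalLib.mem_associatedPrimes_quotient_of_le hP
  obtain ⟨t, ht⟩ := H y hyx hc hamem
  obtain ⟨⟨w, s⟩, hs⟩ := IsLocalization.surj P.primeCompl t
  refine ⟨s, s.2, w, ?_⟩
  refine stalkSpecializes_injective hyx ?_
  show algebraMap _ (X.presheaf.stalk y) _ = algebraMap _ _ _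
  rw [map_mul, map_mul]
  have ht' : algebraMap _ (X.presheaf.stalk y) b = algebraMap _ _ a * t := ht
  rw [ht', ← hs]
  ring

theorem pow_dvd_of_forall_coheight_one [IsIntegral X] [IsLocallyNoetherian X] (hX : Pi1.IsNormalScheme X) (x : X)
    (a b : X.presheaf.stalk x) (ha : a ≠ 0) (j : ℕ)
    (H : ∀ (y : X) (h : y ⤳ x), Order.coheight y = 1 →
      (X.presheaf.stalkSpecializes h).hom a ∈ maximalIdeal (X.presheaf.stalk y) →
      (X.presheaf.stalkSpecializes h).hom a ^ j ∣ (X.presheaf.stalkSpecializes h).hom b) : a ^ j ∣ b := by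
  refine dvd_of_forall_coheight_one hX x _ b (pow_ne_zero j ha) fun y h hc hm => ?_
  rw [map_pow] at hm ⊢
  exact H y h hc ((maximalIdeal.isMaximal _).isPrime.mem_of_pow_mem j hm)

end ModTorsLib
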