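import Groth.Agent.ModTorsLib.Lattice

/-!
# A uniform denominator at all primes over an element
-/

set_option autoImplicit false
set_option linter.style.haveILetI false
set_option backward.isDefEq.respectTransparency false
set_option maxHeartbeats 1000000

noncomputable section

universe u

open IsLocalRing

namespace ModTorsLib

theorem pow_dvd_add_pow {D : Type*} [CommRing D] [IsDomain D] [ValuationRing D] {d x y : D} {N : ℕ}
    (hx : d ∣ x ^ N) (hy : d ∣ y ^ N) : d ∣ (x + y) ^ N := by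
  rcases ValuationRing.dvd_total x y with ⟨t, rfl⟩ | ⟨t, rfl⟩
  · rw [show x + x * t = x * (1 + t) by ring, mul_pow]; exact dvd_mul_of_dvd_left hx _
  · rw [show y * t + y = y * (t + 1) by ring, mul_pow]; exact dvd_mul_of_dvd_left hy _

theorem pow_dvd_sum_pow {D : Type*} [CommRing D] [IsDomain D] [ValuationRing D] {d : D} {N : ℕ} (hN : 0 < N)
    {ι : Type*} (s : Finset ι) (f : ι → D) (h : ∀ i ∈ s, d ∣ f i ^ N) : d ∣ (∑ i ∈ s, f i) ^ N :=
  Finset.sum_induction f (fun x => d ∣ x ^ N) (fun _ _ hx hy => pow_dvd_add_pow hx hy)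
    (by rw [zero_pow hN.ne']; exact dvd_zero _) h

variable {A : Type u} [CommRing A] [IsDomain A] {ι : Type u}

/-- Families at the primes over `a`. -/
abbrev Tup (P : ι → Ideal A) [∀ i, (P i).IsPrime] : Type u := ∀ i, Localization.AtPrime (P i)

theorem exists_uniform [Finite ι] (hN : CAlg.IsNagata A) {a : A} (ha0 : a ≠ 0) (P : ι → Ideal A)
    [∀ i, (P i).IsPrime] [∀ i, IsDiscreteValuationRing (Localization.AtPrime (P i))]
    (haP : ∀ i, a ∈ P i) (hinc : ∀ i k, P i ≤ P k → i = k) :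
    ∃ (N : ℕ) (c : A), 0 < N ∧ (∀ i, c ∉ P i) ∧
      ∀ G : Tup P → Prop, (∀ y, G y → ∀ c' α : A, G fun i => algebraMap A _ c' * y i - algebraMap A _ α) →
        (∀ y, G y → ∀ j < N, (∀ i, algebraMap A _ a ^ j ∣ y i ^ N) →
          ∀ i h, h * algebraMap A _ a ^ j = y i ^ N → IsIntegral A (residue (Localization.AtPrime (P i)) h)) →
        ∀ y, G y → ∃ α : A, ∀ i, algebraMap A _ a ∣ algebraMap A _ c * y i - algebraMap A _ α := by
  classical
  haveI := Fintype.ofFinite ι
  choose m hm hma hmd hstep using fun i => exists_step_at hN (P i) ha0 (haP i)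
  let N := ∏ i, m i
  have hN0 : 0 < N := Finset.prod_pos fun i _ => hm i
  suffices H : ∀ j ≤ N, ∃ c : A, (∀ i, c ∉ P i) ∧
      ∀ G : Tup P → Prop, (∀ y, G y → ∀ c' α : A, G fun i => algebraMap A _ c' * y i - algebraMap A _ α) →
        (∀ y, G y → ∀ j < N, (∀ i, algebraMap A _ a ^ j ∣ y i ^ N) →
          ∀ i h, h * algebraMap A _ a ^ j = y i ^ N → IsIntegral A (residue (Localization.AtPrime (P i)) h)) →
        ∀ y, G y → ∃ α : A, ∀ i, algebraMap A _ a ^ j ∣ (algebraMap A _ c * y i - algebraMap A _ α) ^ N by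
    obtain ⟨c, hc, hcG⟩ := H N le_rfl
    refine ⟨N, c, hN0, hc, fun G h1 h2 y hy => ?_⟩
    obtain ⟨α, hα⟩ := hcG G h1 h2 y hy
    exact ⟨α, fun i => (IsIntegrallyClosed.pow_dvd_pow_iff hN0.ne').mp (hα i)⟩
  intro j hj
  induction j with
  | zero => exact ⟨1, fun i h => (inferInstance : (P i).IsPrime).ne_top ((P i).eq_top_iff_one.mpr h),
      fun G _ _ y _ => ⟨0, fun i => by rw [pow_zero]; exact one_dvd _⟩⟩
  | succ j ih =>
    obtain ⟨c₀, hc₀, hc₀G⟩ := ih (by omega)
    have hn : ∀ i, ∃ n, 0 < n ∧ m i * n = N := fun i =>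
      ⟨∏ k ∈ Finset.univ.erase i, m k, Finset.prod_pos fun k _ => hm k, Finset.mul_prod_erase _ _ (Finset.mem_univ i)⟩
    choose n hn0 hnN using hn
    choose v π₀ hv hβ using fun i => hstep i (n i) j (hn0 i)
    let M := ∑ i, m i
    have hw : ∀ i, ∃ w : A, w ∉ P i ∧ ∀ k, k ≠ i → w ∈ P k ^ M := by
      intro i
      have h1 : ¬ (∏ k ∈ Finset.univ.erase i, P k ^ M) ≤ P i := by
        intro h
        obtain ⟨k, hk, hle⟩ := (Ideal.IsPrime.prod_le inferInstance).mp h
        exact (Finset.mem_erase.mp hk).1 (hinc k i (Ideal.IsPrime.le_of_pow_le hle))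
      obtain ⟨w, hw, hwi⟩ := SetLike.not_le_iff_exists.mp h1
      exact ⟨w, hwi, fun k hk => Ideal.prod_le_inf.trans (Finset.inf_le (Finset.mem_erase.mpr ⟨hk, Finset.mem_univ k⟩)) hw⟩
    choose w hwi hwk using hw
    have hdvd : ∀ i k, k ≠ i → algebraMap A (Localization.AtPrime (P i)) a ∣ algebraMap A _ (w k) := by
      intro i k hk
      refine hmd i _ ?_
      have h1 : w k ∈ P i ^ m i := Ideal.pow_le_pow_right (Finset.single_le_sum (fun l _ => Nat.zero_le (m l)) (Finset.mem_univ i)) (hwk k i hk.symm)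
      rw [← IsLocalization.AtPrime.map_eq_maximalIdeal (P i) (Localization.AtPrime (P i)), ← Ideal.map_pow]
      exact Ideal.mem_map_of_mem _ h1
    let c₁ := ∑ k, v k * w k
    have hc₁ : ∀ i, c₁ ∉ P i := by
      intro i h
      have hrest : ∑ k ∈ Finset.univ.erase i, v k * w k ∈ P i := Ideal.sum_mem _ fun k hk => by
        have hk' := (Finset.mem_erase.mp hk).1
        refine Ideal.mul_mem_left _ _ (Ideal.pow_le_self ?_ (hwk k i hk'.symm))
        exact (lt_of_lt_of_le (hm i) (Finset.single_le_sum (fun l _ => Nat.zero_le (m l)) (Finset.mem_univ i))).ne'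
      have h' : v i * w i ∈ P i := by
        have e : c₁ = v i * w i + ∑ k ∈ Finset.univ.erase i, v k * w k :=
          (Finset.add_sum_erase _ _ (Finset.mem_univ i)).symm
        rw [e] at h
        exact (Ideal.add_mem_iff_left _ hrest).mp h
      exact (Ideal.IsPrime.mem_or_mem inferInstance h').elim (hv i) (hwi i)
    refine ⟨c₁ * c₀, fun i h => (Ideal.IsPrime.mem_or_mem inferInstance h).elim (hc₁ i) (hc₀ i), fun G h1 h2 y hy => ?_⟩
    obtain ⟨α₀, hα₀⟩ := hc₀G G h1 h2 y hy
    let y' : Tup P := fun i => algebraMap A _ c₀ * y i - algebraMap A _ α₀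
    have hG' : G y' := h1 y hy c₀ α₀
    choose β hβ' using fun i => hβ i (y' i) (by rw [hnN]; exact hα₀ i)
      (fun h hh => h2 y' hG' j (by omega) hα₀ i h (by rw [hh, hnN]))
    refine ⟨c₁ * α₀ + ∑ k, β k * π₀ k * w k, fun i => ?_⟩
    have e : algebraMap A (Localization.AtPrime (P i)) (c₁ * c₀) * y i - algebraMap A _ (c₁ * α₀ + ∑ k, β k * π₀ k * w k) =
        ∑ k, algebraMap A _ (w k) * (algebraMap A _ (v k) * y' i - algebraMap A _ (β k * π₀ k)) := by
      simp only [y', c₁, map_add, map_mul, map_sum, Finset.sum_mul, mul_sub, Finset.sum_sub_distrib]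
      rw [sub_add_eq_sub_sub]
      congr 1
      · congr 1 <;> exact Finset.sum_congr rfl fun k _ => by ring
      · exact Finset.sum_congr rfl fun k _ => by ring
    rw [e]
    refine pow_dvd_sum_pow hN0 _ _ fun k _ => ?_
    rw [mul_pow]
    by_cases hk : k = i
    · subst hk
      exact dvd_mul_of_dvd_right (by rw [← hnN k]; exact hβ' k) _
    · exact dvd_mul_of_dvd_left ((pow_dvd_pow _ hj).trans (pow_dvd_pow_of_dvd (hdvd i k hk) N)) _

end ModTorsLib
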