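import Groth.Agent.ModTorsLib.ResFam
import Groth.Agent.ModTorsLib.Dvd
import Groth.Agent.ModTorsLib.Steps
import Groth.Agent.RatModLib.Pair
import Groth.Agent.RatModLib.ConormalFibre
import Mathlib

/-!
# Families of germs modulo `a`: the order along the fibre is bounded by the order off it
-/

set_option autoImplicit false
set_option linter.style.haveILetI false
set_option linter.unusedSectionVars false
set_option backward.isDefEq.respectTransparency false
set_option backward.isDefEq.respectTransparency.types false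
set_option maxHeartbeats 1000000

noncomputable section

universe u

open CategoryTheory CategoryTheory.Limits AlgebraicGeometry IsLocalRing TopologicalSpace

namespace ModTorsLib

open RatModLib

theorem diff_mem {D : Type u} [CommRing D] [IsDomain D] [IsLocalRing D] [IsIntegrallyClosed D]
    {a z z' h h' : D} {j L : ℕ} (ha0 : a ≠ 0) (ha : a ∈ maximalIdeal D) (hjL : j < L)
    (hz : h * a ^ j = z ^ L) (hz' : h' * a ^ j = z' ^ L) (hdvd : a ∣ z' - z) :
    h' - h ∈ maximalIdeal D := by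
  obtain ⟨u, hu⟩ := hdvd
  have key : ∀ i ∈ Finset.range L, ∃ t, t ∈ maximalIdeal D ∧ a * (z' ^ i * z ^ (L - 1 - i)) = a ^ j * t := by
    intro i hi
    obtain ⟨k, hk⟩ : ∃ k, L = i + k + 1 := ⟨L - 1 - i, by have := Finset.mem_range.mp hi; omega⟩
    obtain ⟨d, hd⟩ : ∃ d, L = j + 1 + d := ⟨L - (j + 1), by omega⟩
    have hki : L - 1 - i = k := by omega
    rw [hki]
    have hpow : (a * (z' ^ i * z ^ k)) ^ L = (a ^ j) ^ L * (h' ^ i * h ^ k * a ^ (d + 1)) := by
      have e1 : (z' ^ i) ^ L = h' ^ i * a ^ (j * i) := by rw [← pow_mul, mul_comm i L, pow_mul, ← hz', mul_pow, ← pow_mul]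
      have e2 : (z ^ k) ^ L = h ^ k * a ^ (j * k) := by rw [← pow_mul, mul_comm k L, pow_mul, ← hz, mul_pow, ← pow_mul]
      rw [mul_pow, mul_pow, e1, e2, ← pow_mul a j L]
      have h3 : L + (j * i + j * k) = j * L + (d + 1) := by
        have : j * L = j * i + j * k + j := by rw [hk]; ring
        omega
      calc a ^ L * (h' ^ i * a ^ (j * i) * (h ^ k * a ^ (j * k)))
          = h' ^ i * h ^ k * a ^ (L + (j * i + j * k)) := by rw [pow_add, pow_add]; ring
        _ = _ := by rw [h3, pow_add]; ring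
    obtain ⟨t, ht⟩ : a ^ j ∣ a * (z' ^ i * z ^ k) :=
      (IsIntegrallyClosed.pow_dvd_pow_iff (by omega : L ≠ 0)).mp ⟨_, hpow⟩
    refine ⟨t, ?_, ht⟩
    rw [ht, mul_pow] at hpow
    have ht' := mul_left_cancel₀ (pow_ne_zero L (pow_ne_zero j ha0)) hpow
    exact (maximalIdeal.isMaximal D).isPrime.mem_of_pow_mem L
      (ht' ▸ Ideal.mul_mem_left _ _ (Ideal.pow_mem_of_mem _ ha _ (Nat.succ_pos d)))
  choose! t ht hte using key
  have hsum : (h' - h) * a ^ j = a ^ j * (u * ∑ i ∈ Finset.range L, t i) := by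
    rw [sub_mul, hz, hz', ← geom_sum₂_mul z' z L, hu, Finset.sum_mul, Finset.mul_sum, Finset.mul_sum]
    refine Finset.sum_congr rfl fun i hi => ?_
    calc z' ^ i * z ^ (L - 1 - i) * (a * u) = u * (a * (z' ^ i * z ^ (L - 1 - i))) := by ring
      _ = _ := by rw [hte i hi]; ring
  rw [mul_comm (h' - h)] at hsum
  rw [mul_left_cancel₀ (pow_ne_zero j ha0) hsum]
  exact Ideal.mul_mem_left _ _ (Ideal.sum_mem _ fun i hi => ht i hi)

theorem jump {D : Type u} [CommRing D] [IsDomain D] [IsDiscreteValuationRing D] {a z h : D} {j L : ℕ}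
    (hm : ∃ m : ℕ, m ∣ L ∧ maximalIdeal D ^ m = Ideal.span {a}) (ha : a ∈ maximalIdeal D)
    (hz : h * a ^ j = z ^ L) (hh : h ∈ maximalIdeal D) : a ^ (j + 1) ∣ z ^ L := by
  obtain ⟨ϖ, hϖ⟩ := IsDiscreteValuationRing.exists_irreducible D
  obtain ⟨m, ⟨l, hl⟩, hm⟩ := hm
  rw [hϖ.maximalIdeal_eq, Ideal.span_singleton_pow, Ideal.span_singleton_eq_span_singleton] at hm
  rcases eq_or_ne h 0 with h0 | h0
  · rw [← hz, h0, zero_mul]; exact dvd_zero _
  obtain ⟨e, uh, he⟩ := IsDiscreteValuationRing.eq_unit_mul_pow_irreducible h0 hϖ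
  have hme : m ≤ e := by
    rcases eq_or_ne z 0 with hz0 | hz0
    · exfalso
      have hm0 : m ≠ 0 ∨ m = 0 := (em _).symm
      have hL0 : L ≠ 0 := fun hL => by
        subst hL
        rw [pow_zero] at hz
        exact (maximalIdeal.isMaximal D).ne_top (Ideal.eq_top_of_isUnit_mem _ hh (IsUnit.of_mul_eq_one _ hz))
      rw [hz0, zero_pow hL0] at hz
      have ha0 : a ≠ 0 := fun e0 => hϖ.ne_zero (by
        have := hm.eq_zero_iff.mpr e0
        exact pow_eq_zero_iff'.mp this |>.1)
      exact (mul_ne_zero h0 (pow_ne_zero j ha0)) hz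
    obtain ⟨v, uz, hv⟩ := IsDiscreteValuationRing.eq_unit_mul_pow_irreducible hz0 hϖ
    obtain ⟨ua, hua⟩ := hm
    rw [← hua, he, hv, mul_pow, mul_pow] at hz
    have heq : e + m * j = v * L := by
      refine IsDiscreteValuationRing.unit_mul_pow_congr_pow hϖ hϖ (uh * ua ^ j) (uz ^ L) _ _ ?_
      rw [Units.val_mul, Units.val_pow_eq_pow_val, Units.val_pow_eq_pow_val, pow_add, pow_mul ϖ v L, pow_mul ϖ m j]
      linear_combination hz
    have he0 : e ≠ 0 := fun e0 => by
      rw [he, e0, pow_zero, mul_one] at hh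
      exact (maximalIdeal.isMaximal D).ne_top (Ideal.eq_top_of_isUnit_mem _ hh uh.isUnit)
    have : m ∣ e := by
      have h1 : m ∣ e + m * j := by rw [heq, hl]; exact ⟨l * v, by ring⟩
      exact (Nat.dvd_add_left (dvd_mul_right m j)).mp h1
    exact Nat.le_of_dvd (Nat.pos_of_ne_zero he0) this
  rw [← hz, pow_succ', he]
  exact mul_dvd_mul_right ((hm.dvd_iff_dvd_left).mp (dvd_mul_of_dvd_right (pow_dvd_pow ϖ hme) _)) _

variable {A : Type u} [CommRing A] [IsDomain A] [IsLocalRing A] [IsNoetherianRing A] {X : Scheme.{u}} (f : X ⟶ Spec (CommRingCat.of A))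

/-- A family of germs, coherent modulo `a`. -/
def IsFam (a : A) (s : ∀ x : X, X.presheaf.stalk x) : Prop :=
  ∀ (x y : X) (h : y ⤳ x), phi f y a ∣ (X.presheaf.stalkSpecializes h).hom (s x) - s y

theorem phi_mem_of_specializes {x y : X} (h : y ⤳ x) {a : A} (ha : phi f y a ∈ maximalIdeal (X.presheaf.stalk y)) :
    phi f x a ∈ maximalIdeal (X.presheaf.stalk x) := by
  rw [mem_maximalIdeal] at ha ⊢
  intro hu
  exact ha (phi_spec f h a ▸ hu.map (X.presheaf.stalkSpecializes h).hom)

theorem residue_compat (hn : Pi1.IsNormalScheme X) {a : A} {s h : ∀ x : X, X.presheaf.stalk x} {j L : ℕ}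
    (ha : ∀ x, phi f x a ≠ 0) (hs : IsFam f a s) (hjL : j < L) (hh : ∀ x, h x * phi f x a ^ j = s x ^ L)
    (x y : X) (hyx : y ⤳ x) (hy : phi f y a ∈ maximalIdeal (X.presheaf.stalk y)) :
    X.residue y (X.presheaf.stalkSpecializes hyx (h x)) = X.residue y (h y) := by
  haveI := (hn y).1; haveI := (hn y).2
  have h1 := congrArg (X.presheaf.stalkSpecializes hyx).hom (hh x)
  rw [map_mul, map_pow, map_pow, phi_spec] at h1
  have h2 := diff_mem (ha y) hy hjL (hh y) h1 (hs x y hyx)
  rw [← sub_eq_zero]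
  show (X.residue y).hom _ - (X.residue y).hom _ = 0
  rw [← map_sub]
  exact (residue_eq_zero_iff _).mpr h2

/-- Leading terms of families are integral over the base. -/
theorem leading_integral [IsProper f] (hn : Pi1.IsNormalScheme X) {a : A} {s h : ∀ x : X, X.presheaf.stalk x}
    {j L : ℕ} (ha : ∀ x, phi f x a ≠ 0) (hs : IsFam f a s) (hjL : j < L)
    (hh : ∀ x, h x * phi f x a ^ j = s x ^ L) (y : X) (hy : phi f y a ∈ maximalIdeal (X.presheaf.stalk y)) :
    ((X.residue y).hom.comp (phi f y)).IsIntegralElem (X.residue y (h y)) :=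
  residue_integral f {z | phi f z a ∈ maximalIdeal (X.presheaf.stalk z)}
    (fun _ _ h hz => phi_mem_of_specializes f h hz) h (residue_compat f hn ha hs hjL hh) y hy

/-- A common multiple of the orders of `a` at its prime divisors. -/
theorem exists_multiple [IsIntegral X] [IsNoetherian X] (hn : Pi1.IsNormalScheme X) {a : A}
    (ha : ∀ x, phi f x a ≠ 0) : ∃ L : ℕ, 0 < L ∧ ∀ x : X, Order.coheight x = 1 →
      phi f x a ∈ maximalIdeal (X.presheaf.stalk x) →
      ∃ m, m ∣ L ∧ maximalIdeal (X.presheaf.stalk x) ^ m = Ideal.span {phi f x a} := by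
  classical
  let T : Set X := {x | phi f x a ∈ maximalIdeal (X.presheaf.stalk x)}
  have hT : IsClosed T := by
    have : T = ((X.basicOpen (Coh.toGlobal f a) : X.Opens) : Set X)ᶜ := by
      ext x
      show _ ↔ x ∉ X.basicOpen (Coh.toGlobal f a)
      rw [Scheme.mem_basicOpen_top, ← mem_nonunits_iff, ← mem_maximalIdeal]
      rfl
    rw [this]
    exact (X.basicOpen _).2.isClosed_compl
  let S := {x : X | Order.coheight x = 1 ∧ x ∈ T}
  have hS : S.Finite := by
    refine (finite_maximal_in hT).subset fun x hx => ⟨hx.2, fun y hy hyx => ?_⟩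
    by_contra hne
    have hlt : x < y := lt_of_le_not_ge (Scheme.le_iff_specializes.mpr hyx)
      fun h => hne (hyx.antisymm (Scheme.le_iff_specializes.mp h)).eq
    have h1 := Order.coheight_add_one_le hlt
    rw [hx.1] at h1
    have h0 : Order.coheight y = 0 :=
      nonpos_iff_eq_zero.mp ((ENat.add_le_add_iff_right ENat.one_ne_top).mp (h1.trans (zero_add (1 : ℕ∞)).ge))
    rw [Order.coheight_eq_zero] at h0
    have hy0 : y = genericPoint X := (Specializes.antisymm (Scheme.le_iff_specializes.mp (h0 (Scheme.le_iff_specializes.mpr (genericPoint_specializes y)))) (genericPoint_specializes y)).eq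
    subst hy0
    have hF : IsField (X.presheaf.stalk (genericPoint X)) := Field.toIsField X.functionField
    exact ha _ (by
      have := isField_iff_maximalIdeal_eq.mp hF
      exact (Submodule.eq_bot_iff _).mp this _ hy)
  have hm : ∀ x : X, Order.coheight x = 1 → phi f x a ∈ maximalIdeal (X.presheaf.stalk x) →
      ∃ m, 0 < m ∧ maximalIdeal (X.presheaf.stalk x) ^ m = Ideal.span {phi f x a} := fun x hx hxT => by
    haveI := coheight_eq_one_iff_dvr hn x hx
    obtain ⟨ϖ, hϖ⟩ := IsDiscreteValuationRing.exists_irreducible (X.presheaf.stalk x)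
    obtain ⟨m, hm⟩ := IsDiscreteValuationRing.associated_pow_irreducible (ha x) hϖ
    refine ⟨m, Nat.pos_of_ne_zero fun h0 => ?_, ?_⟩
    · rw [h0, pow_zero] at hm
      exact (mem_maximalIdeal _).mp hxT (hm.symm.isUnit isUnit_one)
    · rw [hϖ.maximalIdeal_eq, Ideal.span_singleton_pow, Ideal.span_singleton_eq_span_singleton]
      exact hm.symm
  choose! m hmpos hm' using hm
  refine ⟨∏ x ∈ hS.toFinset, m x, Finset.prod_pos fun x hx => ?_, fun x hx hxT =>
    ⟨m x, Finset.dvd_prod_of_mem _ (hS.mem_toFinset.mpr ⟨hx, hxT⟩), hm' x hx hxT⟩⟩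
  exact hmpos x (hS.mem_toFinset.mp hx).1 (hS.mem_toFinset.mp hx).2

/-- On a connected fibre, a residue family vanishing somewhere vanishes everywhere. -/
theorem vanish_on_fibre [IsProper f] [IsNoetherian X]
    (Z : Set X) (hZ : ∀ x y : X, y ⤳ x → y ∈ Z → x ∈ Z)
    (hF : ∀ x, f x = closedPoint A → x ∈ Z) (hconn : _root_.IsPreconnected (f ⁻¹' {closedPoint A}))
    (h : ∀ x : X, X.presheaf.stalk x)
    (hh : ∀ (x y : X) (hyx : y ⤳ x), y ∈ Z → X.residue y (X.presheaf.stalkSpecializes hyx (h x)) = X.residue y (h y))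
    (x₀ : X) (hx₀ : f x₀ = closedPoint A) (h0 : h x₀ ∈ maximalIdeal (X.presheaf.stalk x₀))
    (x : X) (hx : f x = closedPoint A) : h x ∈ maximalIdeal (X.presheaf.stalk x) := by
  classical
  let F : Set X := f ⁻¹' {closedPoint A}
  have hFc : IsClosed F := (IsLocalRing.isClosed_singleton_closedPoint A).preimage f.continuous
  have iff : ∀ x y : X, y ⤳ x → y ∈ F → (h x ∈ maximalIdeal (X.presheaf.stalk x) ↔ h y ∈ maximalIdeal (X.presheaf.stalk y)) := by
    intro x y hyx hy
    have hc := hh x y hyx (hF y hy)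
    constructor
    · intro hx
      by_contra hy'
      let j : A →+* X.residueField y := (X.residue y).hom.comp (phi f y)
      have hkill : ∀ m ∈ maximalIdeal A, j m = 0 := fun m hm => by
        refine (residue_eq_zero_iff _).mpr ?_
        have h1 : Spec.map (CommRingCat.ofHom (phi f y)) (closedPoint _) = closedPoint A := by
          rw [← fromSpecStalk_comp, Scheme.Hom.comp_apply]; erw [Scheme.fromSpecStalk_closedPoint]; exact hy
        have h2 := congrArg PrimeSpectrum.asIdeal h1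
        exact (show maximalIdeal A ≤ (maximalIdeal _).comap (phi f y) from h2.ge) hm
      let jk : ResidueField A →+* X.residueField y := Ideal.Quotient.lift (maximalIdeal A) j hkill
      letI : Algebra (ResidueField A) (X.residueField y) := jk.toAlgebra
      have hint : IsIntegral (ResidueField A) (X.residue y (h y)) := by
        obtain ⟨q, hq, hq0⟩ := residue_integral f Z hZ h hh y (hF y hy)
        exact ⟨q.map (residue A), hq.map _, by rw [Polynomial.eval₂_map]; exact hq0⟩
      have hne : X.residue y (h y) ≠ 0 := fun e => hy' ((residue_eq_zero_iff _).mp e)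
      have hmem := hint.inv_mem_adjoin
      rw [Algebra.adjoin_singleton_eq_range_aeval] at hmem
      obtain ⟨q, hq⟩ := hmem
      obtain ⟨q₀, rfl⟩ := Polynomial.map_surjective (residue A) residue_surjective q
      have hw : X.residue y (X.presheaf.stalkSpecializes hyx (h x * Polynomial.eval₂ (phi f x) (h x) q₀ - 1)) = 0 := by
        show ((X.residue y).hom.comp (X.presheaf.stalkSpecializes hyx).hom) _ = 0
        rw [map_sub, map_mul, map_one, Polynomial.hom_eval₂, sub_eq_zero]
        have e1 : ((X.residue y).hom.comp (X.presheaf.stalkSpecializes hyx).hom).comp (phi f x) = j := by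
          ext m; exact congrArg (X.residue y).hom (phi_spec f hyx m)
        have e2 : ((X.residue y).hom.comp (X.presheaf.stalkSpecializes hyx).hom) (h x) = X.residue y (h y) := hc
        rw [e1, e2]
        have e3 : Polynomial.eval₂ j (X.residue y (h y)) q₀ = (X.residue y (h y))⁻¹ := by
          rw [← hq]
          show _ = Polynomial.eval₂ jk _ (q₀.map (residue A))
          rw [Polynomial.eval₂_map]
          rfl
        rw [e3, mul_inv_cancel₀ hne]
      have hw' : h x * Polynomial.eval₂ (phi f x) (h x) q₀ - 1 ∈ maximalIdeal (X.presheaf.stalk x) := by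
        rw [mem_maximalIdeal]
        intro hu
        exact (hu.map ((X.residue y).hom.comp (X.presheaf.stalkSpecializes hyx).hom)).ne_zero hw
      have h1 : (1 : X.presheaf.stalk x) ∈ maximalIdeal (X.presheaf.stalk x) := by
        simpa using Ideal.sub_mem _ (Ideal.mul_mem_right (Polynomial.eval₂ (phi f x) (h x) q₀) _ hx) hw'
      exact (maximalIdeal.isMaximal _).ne_top ((Ideal.eq_top_iff_one _).mpr h1)
    · intro hy'
      rw [mem_maximalIdeal]
      intro hu
      refine (hu.map ((X.residue y).hom.comp (X.presheaf.stalkSpecializes hyx).hom)).ne_zero ?_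
      exact hc.trans ((residue_eq_zero_iff _).mpr hy')
  let G := {x : X | x ∈ F ∧ ∀ y ∈ F, y ⤳ x → y = x}
  have hG : G.Finite := finite_maximal_in hFc
  have hcover : ∀ z ∈ F, ∃ g ∈ G, g ⤳ z := fun z hz => by
    obtain ⟨S, hSf, hSc, hSi, hST⟩ := NoetherianSpace.exists_finite_set_isClosed_irreducible hFc
    obtain ⟨t, ht, hzt⟩ := Set.mem_sUnion.1 (show z ∈ ⋃₀ S from hST ▸ hz)
    obtain ⟨t', ⟨ht', hle⟩, hmax⟩ : ∃ t', (t' ∈ S ∧ t ⊆ t') ∧ ∀ t'' ∈ S, t' ⊆ t'' → t'' ⊆ t' := by
      obtain ⟨t', h1, h2⟩ := (hSf.sep (fun w => t ⊆ w)).exists_maximal ⟨t, ht, subset_rfl⟩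
      exact ⟨t', h1, fun t'' h3 h4 => h2 ⟨h3, h1.2.trans h4⟩ h4⟩
    obtain ⟨g, hg⟩ := QuasiSober.sober (hSi t' ht') (hSc t' ht')
    have hgF : g ∈ F := hST ▸ Set.mem_sUnion.2 ⟨t', ht', hg.mem⟩
    refine ⟨g, ⟨hgF, fun y hy hyg => ?_⟩, hg.specializes (hle hzt)⟩
    obtain ⟨t'', ht'', hyt⟩ := Set.mem_sUnion.1 (show y ∈ ⋃₀ S from hST ▸ hy)
    have hsub : t' ⊆ t'' := by
      rw [← hg.def]
      exact closure_minimal (Set.singleton_subset_iff.2 (hyg.mem_closed (hSc t'' ht'') hyt)) (hSc t'' ht'')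
    exact (hyg.antisymm (hg.specializes (hmax t'' ht'' hsub hyt))).eq
  let P : X → Prop := fun z => h z ∈ maximalIdeal (X.presheaf.stalk z)
  have hclosed : ∀ Q : X → Prop, IsClosed (⋃ g ∈ {g ∈ G | Q g}, closure ({g} : Set X)) := fun Q =>
    (hG.sep _).isClosed_biUnion fun _ _ => isClosed_closure
  let U₁ := ⋃ g ∈ {g ∈ G | P g}, closure ({g} : Set X)
  let U₂ := ⋃ g ∈ {g ∈ G | ¬ P g}, closure ({g} : Set X)
  have h1 : ∀ z ∈ U₁, P z := fun z hz => by
    obtain ⟨g, hg, hgz⟩ := Set.mem_iUnion₂.1 hz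
    exact (iff z g (specializes_iff_mem_closure.2 hgz) hg.1.1).mpr hg.2
  have h2 : ∀ z ∈ U₂, ¬ P z := fun z hz => by
    obtain ⟨g, hg, hgz⟩ := Set.mem_iUnion₂.1 hz
    exact fun hp => hg.2 ((iff z g (specializes_iff_mem_closure.2 hgz) hg.1.1).mp hp)
  have hsub : F ⊆ U₁ ∪ U₂ := fun z hz => by
    obtain ⟨g, hg, hgz⟩ := hcover z hz
    by_cases hp : P g
    · exact Or.inl (Set.mem_iUnion₂.2 ⟨g, ⟨hg, hp⟩, specializes_iff_mem_closure.1 hgz⟩)
    · exact Or.inr (Set.mem_iUnion₂.2 ⟨g, ⟨hg, hp⟩, specializes_iff_mem_closure.1 hgz⟩)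
  by_contra hxP
  have hx₁ : x₀ ∈ U₁ := (hsub hx₀).resolve_right fun h' => h2 _ h' h0
  have hx₂ : x ∈ U₂ := (hsub hx).resolve_left fun h' => hxP (h1 _ h')
  obtain ⟨z, -, hz₁, hz₂⟩ := isPreconnected_closed_iff.1 hconn U₁ U₂ (hclosed _) (hclosed _) hsub
    ⟨x₀, hx₀, hx₁⟩ ⟨x, hx, hx₂⟩
  exact h2 z hz₂ (h1 z hz₁)

/-- The key bound. -/
theorem key [IsProper f] [IsIntegral X] [IsNoetherian X] (hn : Pi1.IsNormalScheme X)
    (hconn : _root_.IsPreconnected (f ⁻¹' {closedPoint A})) {a : A} (ha : ∀ x, phi f x a ≠ 0)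
    (hamax : a ∈ maximalIdeal A)
    (hne : ∃ y : X, Order.coheight y = 1 ∧ phi f y a ∈ maximalIdeal (X.presheaf.stalk y) ∧ f y ≠ closedPoint A)
    {L : ℕ} (hL : ∀ x : X, Order.coheight x = 1 → phi f x a ∈ maximalIdeal (X.presheaf.stalk x) →
      ∃ m, m ∣ L ∧ maximalIdeal (X.presheaf.stalk x) ^ m = Ideal.span {phi f x a})
    {s : ∀ x : X, X.presheaf.stalk x} (hs : IsFam f a s) :
    ∀ j ≤ L, (∀ x : X, Order.coheight x = 1 → phi f x a ∈ maximalIdeal (X.presheaf.stalk x) → f x ≠ closedPoint A →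
      phi f x a ^ j ∣ s x ^ L) → ∀ x, phi f x a ^ j ∣ s x ^ L := by
  intro j
  induction j with
  | zero => exact fun _ _ x => by rw [pow_zero]; exact one_dvd _
  | succ j ih =>
    intro hj hstrict x
    have hall := ih (by omega) fun z h1 h2 h3 => (pow_dvd_pow _ (by omega)).trans (hstrict z h1 h2 h3)
    choose h hh using fun z => hall z
    have hh' : ∀ z, h z * phi f z a ^ j = s z ^ L := fun z => by rw [hh z, mul_comm]
    let Z : Set X := {z | phi f z a ∈ maximalIdeal (X.presheaf.stalk z)}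
    have hZ : ∀ x y : X, y ⤳ x → y ∈ Z → x ∈ Z := fun _ _ h hz => phi_mem_of_specializes f h hz
    have hF : ∀ z, f z = closedPoint A → z ∈ Z := fun z hz => by
      have h1 : Spec.map (CommRingCat.ofHom (phi f z)) (closedPoint _) = closedPoint A := by
        rw [← fromSpecStalk_comp, Scheme.Hom.comp_apply]; erw [Scheme.fromSpecStalk_closedPoint]; exact hz
      exact (show maximalIdeal A ≤ (maximalIdeal _).comap (phi f z) from (congrArg PrimeSpectrum.asIdeal h1).ge) hamax
    have hres := residue_compat f hn ha hs (show j < L by omega) hh'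
    obtain ⟨y, hy1, hy2, hy3⟩ := hne
    haveI := (hn y).1
    have hy0 : h y ∈ maximalIdeal (X.presheaf.stalk y) := by
      obtain ⟨t, ht⟩ := hstrict y hy1 hy2 hy3
      have : h y = phi f y a * t := by
        refine mul_left_cancel₀ (pow_ne_zero j (ha y)) ?_
        rw [mul_comm _ (h y), hh' y, ht, pow_succ]; ring
      rw [this]
      exact Ideal.mul_mem_right _ _ hy2
    obtain ⟨x₀, hx₀, hyx₀⟩ : ∃ x₀, f x₀ = closedPoint A ∧ y ⤳ x₀ := by
      have hcl : IsClosed (f '' closure ({y} : Set X)) := f.isClosedMap _ isClosed_closure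
      have hmem : closedPoint A ∈ f '' closure ({y} : Set X) :=
        (IsLocalRing.specializes_closedPoint (f y)).mem_closed hcl ⟨y, subset_closure rfl, rfl⟩
      obtain ⟨x₀, hx₀, hfx₀⟩ := hmem
      exact ⟨x₀, hfx₀, specializes_iff_mem_closure.2 hx₀⟩
    have hx₀0 : h x₀ ∈ maximalIdeal (X.presheaf.stalk x₀) := by
      rw [mem_maximalIdeal]
      intro hu
      refine (hu.map ((X.residue y).hom.comp (X.presheaf.stalkSpecializes hyx₀).hom)).ne_zero ?_
      exact (hres x₀ y hyx₀ hy2).trans ((residue_eq_zero_iff _).mpr hy0)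
    haveI := (hn x).1
    refine pow_dvd_of_forall_coheight_one hn x _ _ (ha x) (j + 1) fun z hzx hz1 hzmem => ?_
    rw [phi_spec] at hzmem ⊢
    haveI := coheight_eq_one_iff_dvr hn z hz1
    have hdvd : phi f z a ^ (j + 1) ∣ s z ^ L := by
      by_cases hz : f z = closedPoint A
      · exact jump (hL z hz1 hzmem) hzmem (hh' z) (vanish_on_fibre f Z hZ hF hconn h hres x₀ hx₀ hx₀0 z hz)
      · exact hstrict z hz1 hzmem hz
    rw [map_pow]
    obtain ⟨d, hd⟩ := hs x z hzx
    have e : (X.presheaf.stalkSpecializes hzx).hom (s x) = s z + phi f z a * d := by rw [← hd]; ring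
    rw [e]
    exact pow_dvd_add_pow hdvd ((pow_dvd_pow _ hj).trans (pow_dvd_pow_of_dvd (dvd_mul_right _ d) L))

end ModTorsLib
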