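import Groth.Agent.ModTorsLib.Torsion
import Groth.Agent.TwistLib.PullGen
import Groth.Agent.TwistLib.SpecSections
import Groth.Agent.QCohLib.QCoh
import Groth.Agent.AlgzCohLib.Basic
import Mathlib

/-!
# An effective divisor in the closed fibre does not kill `H¹`
-/

set_option autoImplicit false
set_option linter.style.haveILetI false
set_option linter.unusedSectionVars false
set_option backward.isDefEq.respectTransparency false
set_option backward.isDefEq.respectTransparency.types false
set_option maxHeartbeats 1000000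

noncomputable section

universe u

open CategoryTheory CategoryTheory.Limits AlgebraicGeometry IsLocalRing

namespace ModTorsLib

open RatModLib Groth.Agent

variable {A : Type u} [CommRing A] [IsDomain A] [IsLocalRing A] [IsNoetherianRing A] [IsIntegrallyClosed A]
  {X : Scheme.{u}} [X.Over (Spec (CommRingCat.of A))]

local notation "fX" => (X ↘ Spec (CommRingCat.of A))
local notation "O" => Coh.structureModule X

/-- A power of `a` kills the stalks of a cokernel supported where `a` is not a unit. -/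
theorem exists_pow_kill_coker [CompactSpace X] {L : X.Modules} (hL : PicF.IsInvertible L) (s : O ⟶ L) [Mono s] (a : A)
    (hsupp : ∀ x : X, x ∈ CohB1.support (cokernel s) → phi fX x a ∈ maximalIdeal (X.presheaf.stalk x)) :
    ∃ k : ℕ, ∀ (x : X) (m : (cokernel s).presheaf.stalk x), phi fX x a ^ k • m = 0 := by
  haveI := TwistLib.isQCoh_of_isInvertible hL
  haveI : Coh.IsQCoh (Coh.structureModule X) := QCohLib.isQCoh_unit
  haveI := QCohLib.isQCoh_cokernel s
  let S : ShortComplex X.Modules := ShortComplex.mk s (cokernel.π s) (cokernel.condition _)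
  have hS : S.ShortExact :=
    { exact := ShortComplex.exact_of_g_is_cokernel _ (cokernelIsCokernel _)
      mono_f := inferInstanceAs (Mono s)
      epi_g := inferInstanceAs (Epi (cokernel.π s)) }
  have key : ∀ x : X, ∃ (V : X.Opens), x ∈ V ∧ ∃ k : ℕ, ∀ y ∈ V, ∀ m : (cokernel s).presheaf.stalk y,
      phi fX y a ^ k • m = 0 := by
    intro x
    obtain ⟨U, e, hxU, he⟩ := TwistLib.exists_genOn hL x
    obtain ⟨V, hV, hxV, hVU⟩ := exists_isAffineOpen_mem_and_subset hxU
    let a' : Γ(X, V) := X.presheaf.map (homOfLE (le_top : V ≤ ⊤)).op (Coh.toGlobal fX a)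
    have hgerm : ∀ y (hy : y ∈ V), X.presheaf.germ V y hy a' = phi fX y a := fun y hy =>
      X.presheaf.germ_res_apply (homOfLE (le_top : V ≤ ⊤)) y hy _
    let eV : Γ(L, V) := AmpleLib.res L hVU e
    have heV : AmpleLib.GenOn L eV := he.res hVU
    let m0 : Γ(cokernel s, V) := (cokernel.π s).app V eV
    obtain ⟨-, h2⟩ := QCohLib.localizingAt_of_isQCoh hV (cokernel s) a'
    obtain ⟨n, hn⟩ := h2 m0 (by
      refine TopCat.Presheaf.section_ext ((QCohLib.toAbF X).obj (cokernel s) : TopCat.Sheaf AddCommGrpCat.{u} X.toTopCat)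
        (X.basicOpen a') _ _ fun p hp => ?_
      refine @Subsingleton.elim _ (not_not.mp fun hns => ?_) _ _
      have hu := (X.mem_basicOpen a' p (X.basicOpen_le a' hp)).1 hp
      rw [hgerm] at hu
      exact (mem_maximalIdeal _).mp (hsupp p hns) hu)
    refine ⟨V, hxV, n, fun y hy m => ?_⟩
    obtain ⟨l, rfl⟩ := DetRootLib.stalk_surjective hS y m
    obtain ⟨r, rfl⟩ := (heV.genAt hy).2 l
    have h0 : phi fX y a ^ n • (cokernel s).presheaf.germ V y hy m0 = 0 := by
      rw [← hgerm y hy, ← map_pow]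
      refine (AmpleLib.germ_smul (cokernel s) (a' ^ n) m0 hy).symm.trans ?_
      have hn' : a' ^ n • m0 = 0 := by simpa using hn
      exact (congrArg ((cokernel s).presheaf.germ V y hy) hn').trans (map_zero _)
    show phi fX y a ^ n • DetRootLib.sf (cokernel.π s) y (r • L.presheaf.germ V y hy eV) = 0
    rw [map_smul, DetRootLib.sf_germ, smul_comm, h0, smul_zero]
  choose V hxV k hk using key
  obtain ⟨F, hF⟩ := isCompact_univ.elim_finite_subcover (fun x => (V x : Set X)) (fun x => (V x).2)
    (fun x _ => Set.mem_iUnion.mpr ⟨x, hxV x⟩)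
  refine ⟨∑ x ∈ F, k x, fun y m => ?_⟩
  obtain ⟨x, hx, hy⟩ := Set.mem_iUnion₂.mp (hF (Set.mem_univ y))
  rw [← Nat.sub_add_cancel (Finset.single_le_sum (fun i _ => Nat.zero_le (k i)) hx), pow_add, mul_smul, hk x y hy,
    smul_zero]

/-- Sections of `O/a^k` vanishing at the strict points vanish. -/
theorem fam_zero_of_strict (hf : IsModif X fX) (hdim : ringKrullDim A = 2) {a : A} (ha : a ≠ 0) (hamax : a ∈ maximalIdeal A)
    {s : ∀ x : X, X.presheaf.stalk x} (hs : IsFam fX a s)
    (h : ∀ x : X, fX x ≠ closedPoint A → phi fX x a ∣ s x) : ∀ x, phi fX x a ∣ s x := by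
  haveI := hf.proper; haveI := hf.integral
  have hn := hf.normal
  haveI : IsLocallyNoetherian X := LocallyOfFiniteType.isLocallyNoetherian fX
  haveI : CompactSpace X := QuasiCompact.compactSpace_of_compactSpace fX
  haveI : IsNoetherian X := {}
  have hphi := hf.phi_ne_zero ha
  obtain ⟨L, hL0, hL⟩ := exists_multiple fX hn hphi
  have hne : ∃ y : X, Order.coheight y = 1 ∧ phi fX y a ∈ maximalIdeal (X.presheaf.stalk y) ∧ fX y ≠ closedPoint A := by
    obtain ⟨Q, hQ⟩ := Ideal.nonempty_minimalPrimes (I := Ideal.span {a})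
      (fun h => (maximalIdeal.isMaximal A).ne_top (top_le_iff.mp (h ▸ (Ideal.span_singleton_le_iff_mem _).mpr hamax)))
    haveI hQp : Q.IsPrime := hQ.1.1
    let p : Spec (CommRingCat.of A) := (⟨Q, inferInstance⟩ : PrimeSpectrum A)
    have hht := (isDVR_minimal hdim ha hQ).1
    have hp : p ≠ closedPoint A := fun h => by
      rw [show Q = maximalIdeal A from congrArg PrimeSpectrum.asIdeal h] at hht
      have h2 := IsLocalRing.maximalIdeal_height_eq_ringKrullDim (R := A)
      rw [hht, hdim] at h2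
      exact absurd (show ((1 : ℕ∞) : WithBot ℕ∞) = ((2 : ℕ∞) : WithBot ℕ∞) from h2) (by decide)
    obtain ⟨y, hy, -, hiso⟩ := hf.iso_over hdim p hp
    letI := (phi fX y).toAlgebra
    haveI := isLocalization_phi (f := fX) (x := y) Q (congrArg PrimeSpectrum.asIdeal hy)
    refine ⟨y, ?_, ?_, fun e => hp (hy.symm.trans e)⟩
    · have h1 := IsLocalization.AtPrime.ringKrullDim_eq_height Q (X.presheaf.stalk y)
      rw [ringKrullDim_stalk_eq_coheight, hht] at h1
      exact WithBot.coe_inj.mp h1
    · exact (IsLocalization.AtPrime.to_map_mem_maximal_iff (X.presheaf.stalk y) Q a).mpr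
        (hQ.1.2 (Ideal.mem_span_singleton_self a))
  intro x
  haveI := (hn x).1; haveI := (hn x).2
  exact (IsIntegrallyClosed.pow_dvd_pow_iff hL0.ne').mp
    (key fX hn hf.preconnected_fibre hphi hamax hne hL hs L le_rfl
      (fun z _ _ h3 => pow_dvd_pow_of_dvd (h z h3) L) x)

theorem injective_h1_map (hf : IsModif X fX) (hdim : ringKrullDim A = 2) {L : X.Modules} (hL : PicF.IsInvertible L)
    (s : O ⟶ L) [Mono s] (hsupp : CohB1.support (cokernel s) ⊆ fX ⁻¹' {closedPoint A}) :
    Function.Injective (TorsH1Lib.mp (R := A) s 1) := by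
  haveI := hf.proper; haveI := hf.integral
  haveI : CompactSpace X := QuasiCompact.compactSpace_of_compactSpace fX
  obtain ⟨a, hamax, ha⟩ : ∃ a ∈ maximalIdeal A, a ≠ 0 := Submodule.exists_mem_ne_zero_of_ne_bot fun h => by
    rw [ringKrullDim_eq_zero_of_isField (isField_iff_maximalIdeal_eq.2 h)] at hdim
    exact absurd hdim (by decide)
  have hfib : ∀ x : X, fX x = closedPoint A → phi fX x a ∈ maximalIdeal (X.presheaf.stalk x) := fun x hx => by
    have h1 : Spec.map (CommRingCat.ofHom (phi fX x)) (closedPoint _) = closedPoint A := by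
      rw [← fromSpecStalk_comp, Scheme.Hom.comp_apply]; erw [Scheme.fromSpecStalk_closedPoint]; exact hx
    exact (show maximalIdeal A ≤ (maximalIdeal _).comap (phi fX x) from (congrArg PrimeSpectrum.asIdeal h1).ge) hamax
  obtain ⟨k, hk⟩ := exists_pow_kill_coker hL s a fun x hx => hfib x (hsupp hx)
  let b := a ^ (k + 1)
  have hb : b ≠ 0 := pow_ne_zero _ ha
  have hbmax : b ∈ maximalIdeal A := Ideal.pow_mem_of_mem _ hamax _ k.succ_pos
  let S : ShortComplex X.Modules := ShortComplex.mk s (cokernel.π s) (cokernel.condition _)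
  have hS : S.ShortExact :=
    { exact := ShortComplex.exact_of_g_is_cokernel _ (cokernelIsCokernel _)
      mono_f := inferInstanceAs (Mono s)
      epi_g := inferInstanceAs (Epi (cokernel.π s)) }
  have hzero : Formal.smulMod A (cokernel s) b = 0 := by
    refine Scheme.Modules.hom_ext _ _ fun W => ConcreteCategory.hom_ext _ _ fun m => ?_
    refine TopCat.Presheaf.section_ext ((QCohLib.toAbF X).obj (cokernel s) : TopCat.Sheaf AddCommGrpCat.{u} X.toTopCat)
      W _ _ fun x hx => ?_
    let c : Γ(X, W) := X.presheaf.map (homOfLE (le_top : W ≤ ⊤)).op (Coh.toGlobal fX b)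
    let m' : Γ(cokernel s, W) := m
    show (cokernel s).presheaf.germ W x hx (c • m') = (cokernel s).presheaf.germ W x hx 0
    rw [AmpleLib.germ_smul, map_zero]
    show X.presheaf.germ W x hx c • _ = 0
    rw [show X.presheaf.germ W x hx c = phi fX x b from X.presheaf.germ_res_apply (homOfLE (le_top : W ≤ ⊤)) x hx _,
      map_pow, pow_succ', mul_smul, hk, smul_zero]
  have hcomp : Formal.smulMod A L b ≫ cokernel.π s = 0 := by
    rw [← AlgzCohLib.smulMod_naturality, hzero, comp_zero]
  haveI : Mono S.f := hS.mono_f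
  let t : L ⟶ O := hS.exact.lift (Formal.smulMod A L b) hcomp
  have ht : t ≫ s = Formal.smulMod A L b := hS.exact.lift_f _ hcomp
  have hst : s ≫ t = Formal.smulMod A O b := by
    rw [← cancel_mono s, Category.assoc, ht]
    exact AlgzCohLib.smulMod_naturality s b
  let T := TT (X := X) b
  have hT : T.ShortExact := shortExact_TT hf hb
  let ψ : S ⟶ T :=
    { τ₁ := 𝟙 O
      τ₂ := t
      τ₃ := cokernel.desc s (t ≫ T.g) (by
        rw [← Category.assoc, hst]; exact T.zero)
      comm₁₂ := (Category.id_comp _).trans hst.symm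
      comm₂₃ := (cokernel.π_desc _ _ _).symm }
  refine (injective_iff_map_eq_zero _).mpr fun ξ hξ => ?_
  obtain ⟨z, hz⟩ := (TorsH1Lib.exact₁ (R := A) hS ξ).mp hξ
  have hnat := TorsH1Lib.delta_map (R := A) hS hT ψ z
  rw [hz] at hnat
  refine (TorsH1Lib.mp_id (R := A) ξ).symm.trans (hnat.trans ?_)
  let z' := TorsH1Lib.mp (R := A) ψ.τ₃ 0 z
  suffices hz0 : z' = 0 by
    show TorsH1Lib.deltaL (R := A) hT z' = 0
    rw [hz0, map_zero]
  obtain ⟨σ, hσ, hσf⟩ := exists_fam hf hb z'
  have hstrict : ∀ x : X, fX x ≠ closedPoint A → phi fX x b ∣ σ x := by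
    intro x hx
    rw [← smul_eQ_eq_zero_iff hf hb, ← hσ]
    have h1 := QCohLib.hEquiv_map ((QCohLib.toAbF X).map ψ.τ₃) 0 z
    have h2 := QCohLib.h0_comp (QCohLib.hEquiv ((QCohLib.toAbF X).obj S.X₃) 0 z) ((QCohLib.toAbF X).map ψ.τ₃)
    have key : DegPullLib.e0 T.X₃ z' = ψ.τ₃.app ⊤ (DegPullLib.e0 S.X₃ z) :=
      (congrArg (QCohLib.h0 (U := (⊤ : TopologicalSpace.Opens X.toTopCat))) h1).trans h2
    rw [gq, key, ← DetRootLib.sf_germ]
    haveI : Subsingleton ((cokernel s).presheaf.stalk x) := not_not.mp fun h => hx (hsupp h)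
    rw [Subsingleton.elim (α := (cokernel s).presheaf.stalk x) ((S.X₃).presheaf.germ ⊤ x trivial _) 0, map_zero]
  have hall := fam_zero_of_strict hf hdim hb hbmax hσf hstrict
  refine section_ext b fun x => ?_
  rw [hσ, (smul_eQ_eq_zero_iff hf hb x _).mpr (hall x), gq, map_zero, map_zero]

end ModTorsLib
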