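import Groth.Prelude.Def_Found
import Mathlib

/-!
# Uniform denominators for families at height-one primes with integral leading terms
-/

set_option autoImplicit false
set_option linter.style.haveILetI false
set_option backward.isDefEq.respectTransparency false
set_option maxHeartbeats 1000000

noncomputable section

universe u

open IsLocalRing

namespace ModTorsLib

section DVR

variable {D : Type*} [CommRing D] [IsDomain D] [IsDiscreteValuationRing D]

theorem pow_dvd_pow_iff_exp {a y ϖ : D} (hϖ : Irreducible ϖ) (m n v : ℕ) (hn : 0 < n) (hm : 0 < m) (ua uy : Dˣ)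
    (ha : a = ↑ua * ϖ ^ m) (hy : y = ↑uy * ϖ ^ v) (i : ℕ) : a ^ i ∣ y ^ (m * n) ↔ i ≤ n * v := by
  rw [ha, hy, mul_pow, mul_pow, ← pow_mul, ← pow_mul]
  rw [(associated_unit_mul_left _ _ (ua.isUnit.pow i)).dvd_iff_dvd_left,
    (associated_unit_mul_left _ _ (uy.isUnit.pow (m * n))).dvd_iff_dvd_right,
    pow_dvd_pow_iff hϖ.ne_zero hϖ.not_isUnit]
  constructor <;> intro h
  · exact Nat.le_of_mul_le_mul_left (by linarith : m * i ≤ m * (n * v)) hm
  · nlinarith

theorem pow_succ_dvd_of_not_dvd {a y ϖ : D} (hϖ : Irreducible ϖ) (m n : ℕ) (hn : 0 < n) (hm : 0 < m) (ua : Dˣ)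
    (ha : a = ↑ua * ϖ ^ m) (j : ℕ) (hj : ¬ n ∣ j) (h : a ^ j ∣ y ^ (m * n)) : a ^ (j + 1) ∣ y ^ (m * n) := by
  rcases eq_or_ne y 0 with rfl | hy0
  · rw [zero_pow (Nat.mul_pos hm hn).ne']; exact dvd_zero _
  obtain ⟨v, uy, hy⟩ := IsDiscreteValuationRing.eq_unit_mul_pow_irreducible hy0 hϖ
  rw [pow_dvd_pow_iff_exp hϖ m n v hn hm ua uy ha hy] at h ⊢
  rcases h.lt_or_eq with h' | h'
  · omega
  · exact absurd ⟨v, h'⟩ hj

theorem exp_dvd_of_pow_dvd {a y ϖ : D} (hϖ : Irreducible ϖ) (m n : ℕ) (hn : 0 < n) (hm : 0 < m) (ua : Dˣ)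
    (ha : a = ↑ua * ϖ ^ m) (e : ℕ) (h : a ^ (n * e) ∣ y ^ (m * n)) : ϖ ^ e ∣ y := by
  rcases eq_or_ne y 0 with rfl | hy0
  · exact dvd_zero _
  obtain ⟨v, uy, hy⟩ := IsDiscreteValuationRing.eq_unit_mul_pow_irreducible hy0 hϖ
  rw [pow_dvd_pow_iff_exp hϖ m n v hn hm ua uy ha hy] at h
  rw [hy]
  exact dvd_mul_of_dvd_right (pow_dvd_pow _ (Nat.le_of_mul_le_mul_left h hn)) _

theorem pow_succ_dvd_of_exp_dvd {a y ϖ : D} (hϖ : Irreducible ϖ) (m n : ℕ) (hn : 0 < n) (hm : 0 < m) (ua : Dˣ)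
    (ha : a = ↑ua * ϖ ^ m) (e : ℕ) (h : ϖ ^ (e + 1) ∣ y) : a ^ (n * e + 1) ∣ y ^ (m * n) := by
  rcases eq_or_ne y 0 with rfl | hy0
  · rw [zero_pow (Nat.mul_pos hm hn).ne']; exact dvd_zero _
  obtain ⟨v, uy, hy⟩ := IsDiscreteValuationRing.eq_unit_mul_pow_irreducible hy0 hϖ
  rw [pow_dvd_pow_iff_exp hϖ m n v hn hm ua uy ha hy]
  rw [hy, (associated_unit_mul_left _ _ uy.isUnit).dvd_iff_dvd_right, pow_dvd_pow_iff hϖ.ne_zero hϖ.not_isUnit] at h
  nlinarith

end DVR

variable {A : Type u} [CommRing A] [IsDomain A]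

/-- The integral elements of the residue field of a prime have a common denominator outside the prime. -/
theorem exists_denominator (hN : CAlg.IsNagata A) (P : Ideal A) [P.IsPrime] :
    ∃ r : A, r ∉ P ∧ ∀ x : P.ResidueField, IsIntegral A x → ∃ b : A, algebraMap A P.ResidueField r * x = algebraMap A P.ResidueField b := by
  letI : Algebra (FractionRing (A ⧸ P)) P.ResidueField := FractionRing.liftAlgebra (A ⧸ P) P.ResidueField
  haveI : IsScalarTower (A ⧸ P) (FractionRing (A ⧸ P)) P.ResidueField := FractionRing.isScalarTower_liftAlgebra _ _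
  haveI : Module.Finite (FractionRing (A ⧸ P)) P.ResidueField := by
    refine Module.Finite.of_surjective (Algebra.linearMap (FractionRing (A ⧸ P)) P.ResidueField) fun x => ?_
    obtain ⟨p, q, hq, rfl⟩ := IsFractionRing.div_surjective (A ⧸ P) (K := P.ResidueField) x
    exact ⟨algebraMap _ _ p / algebraMap _ _ q, by
      rw [Algebra.linearMap_apply, map_div₀, ← IsScalarTower.algebraMap_apply, ← IsScalarTower.algebraMap_apply]⟩
  haveI := (hN.2 P) P.ResidueField inferInstance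
  obtain ⟨S, hS⟩ := (Module.finite_def.mp ‹Module.Finite (A ⧸ P) (integralClosure (A ⧸ P) P.ResidueField)›)
  obtain ⟨⟨r, hr⟩, hrS⟩ := IsLocalization.exist_integer_multiples (nonZeroDivisors (A ⧸ P)) S
    (fun i => (i : P.ResidueField))
  obtain ⟨r₀, rfl⟩ := Ideal.Quotient.mk_surjective r
  refine ⟨r₀, fun h => nonZeroDivisors.ne_zero hr (Ideal.Quotient.eq_zero_iff_mem.mpr h), fun x hx => ?_⟩
  have hx' : (⟨x, hx.tower_top⟩ : integralClosure (A ⧸ P) P.ResidueField) ∈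
      Submodule.span (A ⧸ P) (S : Set (integralClosure (A ⧸ P) P.ResidueField)) := by rw [hS]; trivial
  have key : ∀ z ∈ Submodule.span (A ⧸ P) (S : Set (integralClosure (A ⧸ P) P.ResidueField)),
      IsLocalization.IsInteger (A ⧸ P) (Ideal.Quotient.mk P r₀ • (z : P.ResidueField)) := by
    intro z hz
    induction hz using Submodule.span_induction with
    | mem z hz => exact hrS z hz
    | zero => rw [ZeroMemClass.coe_zero, smul_zero]; exact IsLocalization.isInteger_zero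
    | add z w _ _ hz hw => rw [AddMemClass.coe_add, smul_add]; exact IsLocalization.isInteger_add hz hw
    | smul t z _ hz => rw [SetLike.val_smul, smul_comm]; exact IsLocalization.isInteger_smul hz
  obtain ⟨b', hb'⟩ := key _ hx'
  obtain ⟨b, rfl⟩ := Ideal.Quotient.mk_surjective b'
  refine ⟨b, ?_⟩
  have hb'' : algebraMap (A ⧸ P) P.ResidueField (Ideal.Quotient.mk P b) = Ideal.Quotient.mk P r₀ • x := hb'
  rw [Algebra.smul_def] at hb''
  exact hb''.symm

/-- One step at one prime. -/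
theorem exists_step_at (hN : CAlg.IsNagata A) (P : Ideal A) [P.IsPrime] [IsDiscreteValuationRing (Localization.AtPrime P)]
    {a : A} (ha0 : a ≠ 0) (haP : a ∈ P) :
    ∃ m : ℕ, 0 < m ∧ algebraMap A (Localization.AtPrime P) a ∈ maximalIdeal (Localization.AtPrime P) ^ m ∧
      (∀ x : Localization.AtPrime P, x ∈ maximalIdeal (Localization.AtPrime P) ^ m → algebraMap A _ a ∣ x) ∧
      ∀ n j : ℕ, 0 < n → ∃ v π₀ : A, v ∉ P ∧ ∀ y : Localization.AtPrime P,
        algebraMap A _ a ^ j ∣ y ^ (m * n) →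
        (∀ h, h * algebraMap A _ a ^ j = y ^ (m * n) → IsIntegral A (residue (Localization.AtPrime P) h)) →
        ∃ β : A, algebraMap A _ a ^ (j + 1) ∣ (algebraMap A _ v * y - algebraMap A _ (β * π₀)) ^ (m * n) := by
  let D := Localization.AtPrime P
  let ι := algebraMap A D
  obtain ⟨ϖ, hϖ⟩ := IsDiscreteValuationRing.exists_irreducible D
  have hιa : ι a ≠ 0 := fun h => ha0 (IsLocalization.injective D P.primeCompl_le_nonZeroDivisors (h.trans (map_zero _).symm))
  obtain ⟨m, ua, ha⟩ := IsDiscreteValuationRing.eq_unit_mul_pow_irreducible hιa hϖ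
  have hmax : maximalIdeal D = Ideal.span {ϖ} := hϖ.maximalIdeal_eq
  have hm : 0 < m := Nat.pos_of_ne_zero fun h => by
    rw [h, pow_zero, mul_one] at ha
    exact (IsLocalization.AtPrime.isUnit_to_map_iff D P a).mp (ha ▸ ua.isUnit) haP
  refine ⟨m, hm, ?_, fun x hx => ?_, fun n j hn => ?_⟩
  · rw [hmax, Ideal.span_singleton_pow, Ideal.mem_span_singleton, show ι a = _ from ha]
    exact dvd_mul_left _ _
  · rw [hmax, Ideal.span_singleton_pow, Ideal.mem_span_singleton] at hx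
    rw [show ι a = _ from ha]
    exact (associated_unit_mul_left _ _ ua.isUnit).dvd_iff_dvd_left.mpr hx
  by_cases hj : n ∣ j
  swap
  · exact ⟨1, 0, fun h => ‹P.IsPrime›.ne_top (P.eq_top_iff_one.mpr h), fun y hy _ => ⟨0, by
      simpa using pow_succ_dvd_of_not_dvd hϖ m n hn hm ua ha j hj hy⟩⟩
  obtain ⟨e, rfl⟩ := hj
  obtain ⟨r, hr, hlat⟩ := exists_denominator hN P
  obtain ⟨π₁, σ, hσ⟩ := IsLocalization.exists_mk'_eq P.primeCompl ϖ
  have hπ : ι π₁ = ϖ * ι σ := by rw [← hσ, IsLocalization.mk'_spec]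
  -- the leading coefficient of `a ^ j`
  let w : P.ResidueField := residue D (↑ua ^ (n * e))
  have hw : w ≠ 0 := by
    intro h
    exact (maximalIdeal.isMaximal D).ne_top (Ideal.eq_top_of_isUnit_mem _ (residue_eq_zero_iff _ |>.mp h) (ua.isUnit.pow _))
  obtain ⟨p, q, hq, hpq⟩ := IsFractionRing.div_surjective (A ⧸ P) (K := P.ResidueField) w
  obtain ⟨p₀, rfl⟩ := Ideal.Quotient.mk_surjective p
  obtain ⟨q₀, rfl⟩ := Ideal.Quotient.mk_surjective q
  have hq0 : q₀ ∉ P := fun h => nonZeroDivisors.ne_zero hq (Ideal.Quotient.eq_zero_iff_mem.mpr h)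
  have hres : ∀ z : A, residue D (ι z) = algebraMap (A ⧸ P) P.ResidueField (Ideal.Quotient.mk P z) := fun z => rfl
  refine ⟨r * q₀ * (σ : A) ^ e, π₁ ^ e, ?_, fun y hy hint => ?_⟩
  · intro h
    rcases Ideal.IsPrime.mem_or_mem ‹_› h with h1 | h1
    · rcases Ideal.IsPrime.mem_or_mem ‹_› h1 with h2 | h2
      · exact hr h2
      · exact hq0 h2
    · exact σ.2 (Ideal.IsPrime.mem_of_pow_mem ‹_› e h1)
  obtain ⟨z, rfl⟩ := exp_dvd_of_pow_dvd hϖ m n hn hm ua ha e hy
  let h : D := z ^ (m * n) * ↑(ua ^ (n * e))⁻¹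
  have hh : h * ι a ^ (n * e) = (ϖ ^ e * z) ^ (m * n) := by
    rw [show ι a = _ from ha, mul_pow, mul_pow, ← pow_mul, ← pow_mul, show e * (m * n) = m * (n * e) by ring]
    have h1 : ((ua ^ (n * e))⁻¹ : Dˣ).val * (↑ua : D) ^ (n * e) = 1 := by rw [← Units.val_pow_eq_pow_val, Units.inv_mul]
    calc z ^ (m * n) * ↑(ua ^ (n * e))⁻¹ * ((↑ua) ^ (n * e) * ϖ ^ (m * (n * e)))
        = ϖ ^ (m * (n * e)) * z ^ (m * n) * (↑(ua ^ (n * e))⁻¹ * (↑ua) ^ (n * e)) := by ring
      _ = _ := by rw [h1, mul_one]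
  have hI := hint h hh
  have hzN : (residue D z) ^ (m * n) = residue D h * w := by
    show _ = _ * residue D (↑ua ^ (n * e))
    rw [← map_pow, ← map_mul]
    congr 1
    show z ^ (m * n) = z ^ (m * n) * ↑(ua ^ (n * e))⁻¹ * ↑ua ^ (n * e)
    rw [mul_assoc, ← Units.val_pow_eq_pow_val, Units.inv_mul, mul_one]
  have hqz : IsIntegral A (algebraMap A P.ResidueField q₀ * residue D z) := by
    refine IsIntegral.of_pow (Nat.mul_pos hm hn) ?_
    have hq' : algebraMap A P.ResidueField q₀ ≠ 0 := fun h => hq0 (Ideal.algebraMap_residueField_eq_zero.mp h)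
    have hw' : w = algebraMap A P.ResidueField p₀ / algebraMap A P.ResidueField q₀ := hpq.symm
    obtain ⟨N, hN'⟩ : ∃ N, m * n = N + 1 := ⟨m * n - 1, by have := Nat.mul_pos hm hn; omega⟩
    have hhw : (algebraMap A P.ResidueField q₀ * residue D z) ^ (m * n) =
        residue D h * (algebraMap A P.ResidueField p₀ * algebraMap A P.ResidueField q₀ ^ N) := by
      rw [mul_pow, hzN, hw', hN', pow_succ]
      field_simp
    rw [hhw]
    exact hI.mul (isIntegral_algebraMap.mul (isIntegral_algebraMap.pow _))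
  obtain ⟨β, hβ⟩ := hlat _ hqz
  refine ⟨β, ?_⟩
  refine pow_succ_dvd_of_exp_dvd hϖ m n hn hm ua ha e ?_
  have hz : ι (r * q₀) * z - ι β ∈ maximalIdeal D := by
    rw [← residue_eq_zero_iff, map_sub, map_mul, map_mul, map_mul, sub_eq_zero, mul_assoc]
    exact hβ
  rw [hmax, Ideal.mem_span_singleton] at hz
  obtain ⟨t, ht⟩ := hz
  refine ⟨ι σ ^ e * t, ?_⟩
  show ι (r * q₀ * (σ : A) ^ e) * (ϖ ^ e * z) - ι (β * π₁ ^ e) = _
  rw [map_mul ι (r * q₀), map_mul ι β, map_pow, map_pow, hπ, mul_pow, pow_succ]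
  calc ι (r * q₀) * ι σ ^ e * (ϖ ^ e * z) - ι β * (ϖ ^ e * ι σ ^ e)
      = ϖ ^ e * ι σ ^ e * (ι (r * q₀) * z - ι β) := by ring
    _ = _ := by rw [ht]; ring

end ModTorsLib
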