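import Groth.Agent.RatModLib.Gen
import Mathlib

/-!
# Residue families over a universally closed morphism take integral values
-/

set_option autoImplicit false
set_option linter.style.haveILetI false
set_option backward.isDefEq.respectTransparency false
set_option backward.isDefEq.respectTransparency.types false

noncomputable section

universe u

open CategoryTheory CategoryTheory.Limits AlgebraicGeometry IsLocalRing

namespace ModTorsLib

open RatModLib

variable {A : Type u} [CommRing A] {X : Scheme.{u}} (f : X ⟶ Spec (CommRingCat.of A))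

theorem residue_integral [UniversallyClosed f] (Z : Set X) (hZ : ∀ x y : X, y ⤳ x → y ∈ Z → x ∈ Z)
    (h : ∀ x : X, X.presheaf.stalk x)
    (hh : ∀ (x y : X) (hyx : y ⤳ x), y ∈ Z → X.residue y (X.presheaf.stalkSpecializes hyx (h x)) = X.residue y (h y))
    (y : X) (hy : y ∈ Z) :
    ((X.residue y).hom.comp (phi f y)).IsIntegralElem (X.residue y (h y)) := by
  let K := X.residueField y
  let j : A →+* K := (X.residue y).hom.comp (phi f y)
  letI : Algebra A K := j.toAlgebra
  show IsIntegral A (X.residue y (h y))
  suffices hmem : X.residue y (h y) ∈ (integralClosure (Subring.closure (Set.range j)) K).toSubring by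
    have h1 : IsIntegral (Subring.closure (Set.range j)) (X.residue y (h y)) := hmem
    have h2 : Subring.closure (Set.range j) = j.range := by
      rw [← RingHom.coe_range, Subring.closure_eq]
    rw [h2] at h1
    obtain ⟨p, hp, hp0⟩ := h1
    obtain ⟨q, hq, -, hqm⟩ := Polynomial.lifts_and_degree_eq_and_monic
      ((Polynomial.lifts_iff_coeff_lifts p).mpr fun n => by
        obtain ⟨a, ha⟩ := (p.coeff n).2; exact ⟨a, Subtype.ext ha⟩ :
        p ∈ Polynomial.lifts j.rangeRestrict) hp
    refine ⟨q, hqm, ?_⟩
    rw [← hq, Polynomial.eval₂_map] at hp0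
    exact hp0
  rw [← iInf_valuationSubring_superset, Subring.mem_iInf]
  rintro ⟨V, hV⟩
  have hv : ∀ a, j a ∈ V := fun a => hV ⟨a, rfl⟩
  let jV : A →+* V := j.codRestrict V.toSubring hv
  have hsq : X.fromSpecResidueField y ≫ f = Spec.map (CommRingCat.ofHom (algebraMap V K)) ≫ Spec.map (CommRingCat.ofHom jV) := by
    rw [← Spec.map_comp, Scheme.fromSpecResidueField, Category.assoc, fromSpecStalk_comp, ← Spec.map_comp]
    rfl
  have hex : ValuativeCriterion.Existence f := by
    have := ‹UniversallyClosed f›
    rw [UniversallyClosed.eq_valuativeCriterion] at this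
    exact this.1
  obtain ⟨⟨⟨l, hl₁, hl₂⟩⟩⟩ := hex { R := V, K := K, i₁ := X.fromSpecResidueField y, i₂ := Spec.map (CommRingCat.ofHom jV), commSq := ⟨hsq⟩ }
  simp only at hl₁ hl₂
  let x := l (closedPoint V)
  let φ : X.presheaf.stalk x ⟶ CommRingCat.of V := Scheme.stalkClosedPointTo l
  have hφ : Spec.map φ ≫ X.fromSpecStalk x = l := Scheme.Spec_stalkClosedPointTo_fromSpecStalk l
  have hyx : y ⤳ x := by
    have h1 : X.fromSpecResidueField y (closedPoint K) = y := Scheme.fromSpecResidueField_apply _ _
    rw [← hl₁, Scheme.Hom.comp_apply] at h1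
    have h2 := (IsLocalRing.specializes_closedPoint (R := V)
      (Spec.map (CommRingCat.ofHom (algebraMap V K)) (closedPoint K))).map l.continuous
    have h3 : l (Spec.map (CommRingCat.ofHom (algebraMap V K)) (closedPoint K)) ⤳ x := h2
    erw [h1] at h3; exact h3
  have hcomp : φ ≫ CommRingCat.ofHom (algebraMap V K) = X.presheaf.stalkSpecializes hyx ≫ X.residue y := by
    apply Spec.map_injective
    rw [← cancel_mono (X.fromSpecStalk x), Spec.map_comp, Category.assoc, hφ, hl₁, Spec.map_comp, Category.assoc,
      Scheme.SpecMap_stalkSpecializes_fromSpecStalk]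
    rfl
  have := congrArg (fun g : X.presheaf.stalk x ⟶ CommRingCat.of K => g (h x)) hcomp
  show X.residue y (h y) ∈ V
  rw [← hh x y hyx hy]
  exact this ▸ (φ (h x)).2

end ModTorsLib
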