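import Groth.Agent.ModTorsLib.Strict
import Groth.Agent.CurveFamNormLib.App
import Groth.Agent.TorsH1Lib.Coh
import Groth.Agent.DetRootLib.Filt
import Groth.Agent.AmpleLib.Gen
import Groth.Agent.RatModLib.Linear
import Mathlib

/-!
# The `a`-torsion of `H¹` is bounded over all modifications
-/

set_option autoImplicit false
set_option linter.style.haveILetI false
set_option linter.unusedSectionVars false
set_option backward.isDefEq.respectTransparency false
set_option backward.isDefEq.respectTransparency.types false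
set_option maxHeartbeats 2000000

noncomputable section

universe u

open CategoryTheory CategoryTheory.Limits AlgebraicGeometry IsLocalRing

namespace ModTorsLib

open RatModLib Groth.Agent

theorem length_quot_ne_top {A : Type u} [CommRing A] [IsLocalRing A] [IsNoetherianRing A] (I : Ideal A)
    (h : ∀ Q : Ideal A, Q.IsPrime → I ≤ Q → Q = maximalIdeal A) : Module.length A (A ⧸ I) ≠ ⊤ := by
  have hrad : maximalIdeal A ≤ I.radical := by
    rw [Ideal.radical_eq_sInf]
    exact le_sInf fun Q hQ => (h Q hQ.2 hQ.1).ge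
  obtain ⟨n, hn⟩ := Ideal.exists_pow_le_of_le_radical_of_fg hrad (maximalIdeal A).fg_of_isNoetherianRing
  refine ne_top_of_le_ne_top (Module.length_ne_top_iff.2 (InjHullLib.isFiniteLength_quotient_pow (m := maximalIdeal A) n))
    (Module.length_le_of_surjective (Submodule.mapQ (maximalIdeal A ^ n) I LinearMap.id hn) ?_)
  intro q
  obtain ⟨r, rfl⟩ := Submodule.Quotient.mk_surjective _ q
  exact ⟨Submodule.Quotient.mk r, rfl⟩

section Link

variable {A : Type u} [CommRing A] [IsDomain A] [IsLocalRing A] [IsNoetherianRing A] [IsIntegrallyClosed A]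
  {X : Scheme.{u}} [X.Over (Spec (CommRingCat.of A))]

local notation "fX" => (X ↘ Spec (CommRingCat.of A))
local notation "O" => Coh.structureModule X

theorem gl_smul (r : A) {M : X.Modules} (m : Coh.HH X M 0) :
    DegPullLib.e0 M (r • m) = (show Γ(X, ⊤) from Coh.toGlobal fX r) • DegPullLib.e0 M m :=
  DegPullLib.e0_smul M _ m

theorem mu_app_injective (hf : IsModif X fX) {a : A} (ha : a ≠ 0) (W : X.Opens) :
    Function.Injective ((Formal.smulMod A O a).app W) := by
  haveI := hf.integral
  intro m n hmn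
  let c : Γ(X, W) := X.presheaf.map (homOfLE (le_top : W ≤ ⊤)).op (Coh.toGlobal fX a)
  let m' : Γ(X, W) := m
  let n' : Γ(X, W) := n
  replace hmn : c * m' = c * n' := hmn
  show m' = n'
  by_cases hW : (W : Set X).Nonempty
  · haveI : Nonempty W := hW.to_subtype
    refine mul_left_cancel₀ (fun h0 => ?_) hmn
    obtain ⟨x, hx⟩ := hW
    refine hf.phi_ne_zero ha x ?_
    show X.presheaf.germ ⊤ x trivial (Coh.toGlobal fX a) = 0
    rw [← X.presheaf.germ_res_apply (homOfLE (le_top : W ≤ ⊤)) x hx]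
    show X.presheaf.germ W x hx c = 0
    rw [h0, map_zero]
  · have hbot : W = ⊥ := eq_bot_iff.mpr fun x hx => (hW ⟨x, hx⟩).elim
    subst hbot
    exact Subsingleton.elim (α := Γ(X, ⊥)) _ _

theorem mono_mu (hf : IsModif X fX) {a : A} (ha : a ≠ 0) : Mono (Formal.smulMod A O a) :=
  ⟨fun {Z} g h e => Scheme.Modules.hom_ext _ _ fun W => ConcreteCategory.hom_ext _ _ fun m =>
    mu_app_injective hf ha W (congrArg (fun φ : Z ⟶ O => φ.app W m) e)⟩

abbrev TT (a : A) : ShortComplex X.Modules :=
  ShortComplex.mk (Formal.smulMod A O a) (cokernel.π (Formal.smulMod A O a)) (cokernel.condition _)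

theorem shortExact_TT (hf : IsModif X fX) {a : A} (ha : a ≠ 0) : (TT (X := X) a).ShortExact := by
  haveI := mono_mu hf ha
  exact { exact := ShortComplex.exact_of_g_is_cokernel _ (cokernelIsCokernel _)
          mono_f := inferInstanceAs (Mono (Formal.smulMod A O a))
          epi_g := inferInstanceAs (Epi (cokernel.π (Formal.smulMod A O a))) }

/-- The image of `1` in the stalks of the quotient. -/
def eQ (a : A) (x : X) : (TT (X := X) a).X₃.presheaf.stalk x :=
  DetRootLib.sf (TT a).g x ((Coh.structureModule X).presheaf.germ ⊤ x trivial (1 : Γ(X, ⊤)))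

theorem smul_eQ_eq_zero_iff (hf : IsModif X fX) {a : A} (ha : a ≠ 0) (x : X) (r : X.presheaf.stalk x) :
    r • eQ a x = 0 ↔ phi fX x a ∣ r := by
  let e := (Coh.structureModule X).presheaf.germ ⊤ x trivial (1 : Γ(X, ⊤))
  have hgen := (AmpleLib.one_genOn (X := X) ⊤).genAt (x := x) trivial
  have hmu : ∀ d : X.presheaf.stalk x, DetRootLib.sf (TT (X := X) a).f x (d • e) = (d * phi fX x a) • e := by
    intro d
    rw [map_smul, DetRootLib.sf_germ, mul_smul]
    refine congrArg (d • ·) ?_
    refine Eq.trans ?_ (AmpleLib.germ_smul (Coh.structureModule X) (W := ⊤) (Coh.toGlobal fX a) (1 : Γ(X, ⊤)) (x := x) trivial)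
    refine congrArg _ ?_
    show X.presheaf.map (homOfLE (le_top : (⊤ : X.Opens) ≤ ⊤)).op (Coh.toGlobal fX a) * (1 : Γ(X, ⊤)) = _ * (1 : Γ(X, ⊤))
    congr 1
    exact AmpleLib.res_refl (M := Coh.structureModule X) _
  constructor
  · intro h
    rw [eQ, ← map_smul] at h
    obtain ⟨d, hd⟩ := DetRootLib.stalk_exact (shortExact_TT hf ha) x _ h
    obtain ⟨d', rfl⟩ := hgen.2 d
    have h2 : (d' * phi fX x a) • e = r • e := (hmu d').symm.trans hd
    exact ⟨d', (hgen.1 h2).symm.trans (mul_comm _ _)⟩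
  · rintro ⟨d, rfl⟩
    rw [eQ, ← map_smul, mul_comm, ← hmu d, ← DetRootLib.sf_comp, (TT (X := X) a).zero]
    show ((DerSch.stalkFunctor X x).map (0 : Coh.structureModule X ⟶ (TT (X := X) a).X₃)).hom (d • e) = 0
    rw [Functor.map_zero]
    rfl

theorem eQ_sp (a : A) {x y : X} (h : y ⤳ x) :
    (TT (X := X) a).X₃.presheaf.stalkSpecializes h (eQ a x) = eQ a y := by
  rw [eQ, ← DetRootLib.sf_sp, TopCat.Presheaf.germ_stalkSpecializes_apply]
  rfl

/-- The germ of a section of the quotient. -/
def gq (a : A) (x : X) (z : Coh.HH X (TT (X := X) a).X₃ 0) : (TT (X := X) a).X₃.presheaf.stalk x :=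
  (TT (X := X) a).X₃.presheaf.germ ⊤ x trivial (DegPullLib.e0 _ z)

theorem gq_add (a : A) (x : X) (z z' : Coh.HH X (TT (X := X) a).X₃ 0) : gq a x (z + z') = gq a x z + gq a x z' := by
  simp only [gq, map_add]

theorem gq_smul (a : A) (x : X) (r : A) (z : Coh.HH X (TT (X := X) a).X₃ 0) :
    gq a x (r • z) = phi fX x r • gq a x z := by
  simp only [gq]
  rw [gl_smul]
  exact AmpleLib.germ_smul _ _ _ _

theorem exists_fam (hf : IsModif X fX) {a : A} (ha : a ≠ 0) (z : Coh.HH X (TT (X := X) a).X₃ 0) :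
    ∃ s : ∀ x : X, X.presheaf.stalk x, (∀ x, gq a x z = s x • eQ a x) ∧ IsFam fX a s := by
  have hs : ∀ x, ∃ r : X.presheaf.stalk x, gq a x z = r • eQ a x := by
    intro x
    obtain ⟨m, hm⟩ := DetRootLib.stalk_surjective (shortExact_TT hf ha) x (gq a x z)
    obtain ⟨r, rfl⟩ := ((AmpleLib.one_genOn (X := X) ⊤).genAt (x := x) trivial).2 m
    exact ⟨r, by rw [← hm]; exact map_smul _ _ _⟩
  choose s hs using hs
  refine ⟨s, hs, fun x y h => ?_⟩
  rw [← smul_eQ_eq_zero_iff hf ha, sub_smul, sub_eq_zero, ← hs y]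
  have h1 := congrArg ((TT (X := X) a).X₃.presheaf.stalkSpecializes h) (hs x)
  rw [CycC1Lib.stalkSpecializes_smul, eQ_sp] at h1
  exact h1.symm.trans (TopCat.Presheaf.germ_stalkSpecializes_apply _ _ h _)

theorem gq_mp (a : A) (x : X) (y : Coh.HH X O 0) :
    gq a x (TorsH1Lib.mp (R := A) (TT (X := X) a).g 0 y) =
      X.presheaf.germ ⊤ x trivial (show Γ(X, ⊤) from DegPullLib.e0 O y) • eQ a x := by
  have key : DegPullLib.e0 (TT (X := X) a).X₃ (TorsH1Lib.mp (R := A) (TT (X := X) a).g 0 y) =
      (TT (X := X) a).g.app ⊤ (DegPullLib.e0 O y) := by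
    have h1 := QCohLib.hEquiv_map ((QCohLib.toAbF X).map (TT (X := X) a).g) 0 y
    have h2 := QCohLib.h0_comp (QCohLib.hEquiv ((QCohLib.toAbF X).obj O) 0 y) ((QCohLib.toAbF X).map (TT (X := X) a).g)
    exact (congrArg (QCohLib.h0 (U := (⊤ : TopologicalSpace.Opens X.toTopCat))) h1).trans h2
  rw [gq, key, ← DetRootLib.sf_germ, eQ, ← map_smul, ← AmpleLib.germ_smul]
  refine congrArg (DetRootLib.sf (TT (X := X) a).g x) (congrArg _ ?_)
  exact (mul_one (show Γ(X, ⊤) from DegPullLib.e0 O y)).symm

theorem section_ext (a : A) {z z' : Coh.HH X (TT (X := X) a).X₃ 0} (h : ∀ x, gq a x z = gq a x z') : z = z' :=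
  (DegPullLib.e0 _).injective
    (TopCat.Presheaf.section_ext (⟨_, (TT (X := X) a).X₃.isSheaf⟩ : TopCat.Sheaf Ab X.toTopCat) ⊤ _ _ fun x _ => h x)

theorem toGlobal_bijective (hf : IsModif X fX) : Function.Bijective (Coh.toGlobal fX) := by
  haveI := hf.proper; haveI := hf.integral
  obtain ⟨U, hU, hiso⟩ := hf.birat
  haveI := CurveFamNormLib.isIso_app_of_birational_normal fX (ParaFLib.isNormal_spec A) U hU ⊤
  exact (ConcreteCategory.bijective_of_isIso (Scheme.Hom.appTop fX)).comp
    (ConcreteCategory.bijective_of_isIso ((Scheme.ΓSpecIso (CommRingCat.of A)).inv))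

/-- The torsion is bounded by the length of `A/(a, c)`. -/
theorem length_torsionBy_le (hf : IsModif X fX) (hdim : ringKrullDim A = 2) {a c : A} (ha : a ≠ 0)
    (hinj : ∀ s, IsFam fX a s → (∀ x, phi fX x a ∣ phi fX x c * s x) → ∀ x, phi fX x a ∣ s x)
    (hfam : ∀ s : ∀ x : X, X.presheaf.stalk x, IsFam fX a s →
      ∃ α : A, ∀ x, phi fX x a ∣ phi fX x c * s x - phi fX x α) :
    Module.length A ↥(Submodule.torsionBy A (Coh.HH X O 1) a) ≤ Module.length A (A ⧸ Ideal.span {a, c}) := by
  haveI := hf.proper; haveI := hf.integral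
  have hn := hf.normal
  have hdvd : ∀ β : A, (∀ x, phi fX x a ∣ phi fX x β) → a ∣ β := by
    intro β hβ
    refine NormalLib.dvd_of_forall_associatedPrimes fun P hP => ?_
    haveI : P.IsPrime := hP.isPrime
    let p : Spec (CommRingCat.of A) := (⟨P, inferInstance⟩ : PrimeSpectrum A)
    have hp : p ≠ closedPoint A := fun h => by
      have h1 := NormalLib.height_eq_one_of_mem_associatedPrimes ha hP
      rw [show P = maximalIdeal A from congrArg PrimeSpectrum.asIdeal h] at h1
      have h2 := IsLocalRing.maximalIdeal_height_eq_ringKrullDim (R := A)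
      rw [h1, hdim] at h2
      exact absurd (show ((1 : ℕ∞) : WithBot ℕ∞) = ((2 : ℕ∞) : WithBot ℕ∞) from h2) (by decide)
    obtain ⟨x, hx, -, hiso⟩ := hf.iso_over hdim p hp
    letI := (phi fX x).toAlgebra
    haveI := isLocalization_phi (f := fX) (x := x) P (congrArg PrimeSpectrum.asIdeal hx)
    obtain ⟨d, hd⟩ := hβ x
    obtain ⟨⟨w, t⟩, hwt⟩ := IsLocalization.surj P.primeCompl d
    refine ⟨t, t.2, w, ?_⟩
    refine IsLocalization.injective (X.presheaf.stalk x) P.primeCompl_le_nonZeroDivisors ?_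
    rw [map_mul, map_mul, ← hwt]
    show algebraMap A (X.presheaf.stalk x) t * phi fX x β = _
    rw [hd]
    show _ * (algebraMap A (X.presheaf.stalk x) a * d) = _
    ring
  let T := TT (X := X) a
  have hT : T.ShortExact := shortExact_TT hf ha
  let I : Ideal A := Ideal.span {a, c}
  choose s hs hsfam using fun z => exists_fam hf ha z
  choose α hα using fun z => hfam (s z) (hsfam z)
  have huniq : ∀ z β, (∀ x, phi fX x β • eQ a x = phi fX x c • gq a x z) →
      Ideal.Quotient.mk I (α z) = Ideal.Quotient.mk I β := by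
    intro z β hβ
    refine Ideal.Quotient.eq.mpr (Ideal.span_mono (Set.singleton_subset_iff.mpr (Set.mem_insert a _))
      (Ideal.mem_span_singleton.mpr (hdvd _ fun x => (smul_eQ_eq_zero_iff hf ha x _).mp ?_)))
    rw [map_sub, sub_smul, sub_eq_zero, hβ, hs z x, smul_smul]
    refine (sub_eq_zero.mp ?_).symm
    rw [← sub_smul]
    exact (smul_eQ_eq_zero_iff hf ha x _).mpr (hα z x)
  have hspec : ∀ z x, phi fX x (α z) • eQ a x = phi fX x c • gq a x z := fun z x => by
    rw [hs z x, smul_smul]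
    refine (sub_eq_zero.mp ?_).symm
    rw [← sub_smul]
    exact (smul_eQ_eq_zero_iff hf ha x _).mpr (hα z x)
  let g : Coh.HH X T.X₃ 0 →ₗ[A] A ⧸ I :=
    { toFun := fun z => Ideal.Quotient.mk I (α z)
      map_add' := fun z w => by
        rw [← map_add]
        exact huniq _ _ fun x => by rw [map_add, add_smul, hspec, hspec, gq_add, smul_add]
      map_smul' := fun r z => by
        show _ = Ideal.Quotient.mk I (r * α z)
        exact huniq _ _ fun x => by
          rw [map_mul, mul_smul, hspec, gq_smul, smul_smul, smul_smul, mul_comm] }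
  have hker : LinearMap.ker g = LinearMap.ker (TorsH1Lib.deltaL (R := A) hT) := by
    ext z
    rw [LinearMap.mem_ker, LinearMap.mem_ker]
    show Ideal.Quotient.mk I (α z) = 0 ↔ TorsH1Lib.delta hT z = 0
    rw [TorsH1Lib.exact₃ (R := A), Ideal.Quotient.eq_zero_iff_mem]
    constructor
    · intro hI
      obtain ⟨u, v, huv⟩ := Ideal.mem_span_pair.mp hI
      obtain ⟨y, hy⟩ := (DegPullLib.e0 O).surjective (Coh.toGlobal fX v)
      refine ⟨y, (section_ext a fun x => ?_).symm⟩
      rw [gq_mp, hy, hs z x]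
      show _ = phi fX x v • eQ a x
      rw [← sub_eq_zero, ← sub_smul, smul_eQ_eq_zero_iff hf ha]
      refine hinj (fun x => s z x - phi fX x v) (fun x y h => ?_) (fun x => ?_) x
      · obtain ⟨d, hd⟩ := hsfam z x y h
        exact ⟨d, by rw [map_sub, phi_spec]; linear_combination hd⟩
      · obtain ⟨d, hd⟩ := hα z x
        refine ⟨d + phi fX x u, ?_⟩
        rw [← huv, map_add, map_mul, map_mul] at hd
        linear_combination hd
    · rintro ⟨y, rfl⟩
      obtain ⟨b, hb⟩ := (toGlobal_bijective hf).2 (DegPullLib.e0 O y)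
      rw [← Ideal.Quotient.eq_zero_iff_mem]
      rw [huniq _ (c * b) fun x => by
        rw [map_mul, mul_smul]
        refine congrArg (phi fX x c • ·) ?_
        rw [gq_mp, ← hb]
        rfl]
      exact Ideal.Quotient.eq_zero_iff_mem.mpr (Ideal.mul_mem_right _ _ (Ideal.subset_span (by simp)))
  have hle : Submodule.torsionBy A (Coh.HH X O 1) a ≤ LinearMap.range (TorsH1Lib.deltaL (R := A) hT) := by
    intro ξ hξ
    obtain ⟨z, hz⟩ := (TorsH1Lib.exact₁ (R := A) hT ξ).mp ((TorsH1Lib.mp_smulMod a ξ).trans hξ)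
    exact ⟨z, hz⟩
  refine (Module.length_le_of_injective (Submodule.inclusion hle) (Submodule.inclusion_injective hle)).trans ?_
  rw [← ((Submodule.quotEquivOfEq _ _ hker).trans (TorsH1Lib.deltaL (R := A) hT).quotKerEquivRange).length_eq]
  exact Module.length_le_of_injective ((Submodule.subtype _).comp g.quotKerEquivRange.toLinearMap)
    (Subtype.val_injective.comp g.quotKerEquivRange.injective)

end Link

end ModTorsLib

namespace ModTorsLib

open RatModLib Groth.Agent

/-- The `a`-torsion of `H¹` has bounded length over all normal modifications. -/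
theorem exists_bound (A : Type u) [CommRing A] [IsDomain A] [IsLocalRing A] [IsNoetherianRing A]
    [IsIntegrallyClosed A] (hN : CAlg.IsNagata A) (hdim : ringKrullDim A = 2) (a : A) (ha : a ≠ 0) :
    ∃ N : ℕ, ∀ (X : Scheme.{u}) [X.Over (Spec (CommRingCat.of A))], IsModif X (X ↘ Spec (CommRingCat.of A)) →
      Module.length A ↥(Submodule.torsionBy A (Coh.HH X (Coh.structureModule X) 1) a) ≤ (N : ℕ∞) := by
  by_cases hu : IsUnit a
  · refine ⟨0, fun X _ _ => le_of_eq (Module.length_eq_zero_iff.mpr ⟨fun u v => ?_⟩)⟩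
    have key : ∀ w : Submodule.torsionBy A (Coh.HH X (Coh.structureModule X) 1) a, w = 0 := fun w => by
      obtain ⟨i, rfl⟩ := hu
      refine Subtype.ext ?_
      have h := w.2
      rw [Submodule.mem_torsionBy_iff] at h
      rw [← one_smul A (w : Coh.HH X (Coh.structureModule X) 1), ← Units.inv_mul i, mul_smul, h, smul_zero]
      rfl
    rw [key u, key v]
  have hamax : a ∈ maximalIdeal A := (mem_maximalIdeal a).mpr hu
  obtain ⟨c, hc, hX⟩ := exists_uniform_annihilator hN hdim ha hamax
  have hlen : Module.length A (A ⧸ Ideal.span {a, c}) ≠ ⊤ := by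
    refine length_quot_ne_top _ fun Q hQ hle => ?_
    haveI := hQ
    obtain ⟨P, hP, hPQ⟩ := Ideal.exists_minimalPrimes_le
      ((Ideal.span_singleton_le_iff_mem _).mpr (hle (Ideal.subset_span (Set.mem_insert a _))))
    haveI : P.IsPrime := hP.1.1
    have hlt : P < Q := lt_of_le_of_ne hPQ fun e => hc P hP (e ▸ hle (Ideal.subset_span (by simp)))
    by_contra hne
    have hlt' : Q < maximalIdeal A := lt_of_le_of_ne (IsLocalRing.le_maximalIdeal hQ.ne_top) hne
    have h1 := Ideal.height_strict_mono_of_isPrime hlt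
    have h2 := Ideal.height_strict_mono_of_isPrime hlt'
    rw [(isDVR_minimal hdim ha hP).1] at h1
    have h3 : ((maximalIdeal A).height : WithBot ℕ∞) = ((2 : ℕ∞) : WithBot ℕ∞) := by
      rw [IsLocalRing.maximalIdeal_height_eq_ringKrullDim, hdim]; rfl
    rw [WithBot.coe_inj.mp h3] at h2
    have h4 : Q.height ≤ 1 := by
      rw [show (2 : ℕ∞) = 1 + 1 from by norm_num] at h2
      exact (ENat.lt_add_one_iff ENat.one_ne_top).mp h2
    exact lt_irrefl _ (h1.trans_le h4)
  obtain ⟨N, hN'⟩ := ENat.ne_top_iff_exists.mp hlen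
  refine ⟨N, fun X _ hf => ?_⟩
  rw [hN']
  exact length_torsionBy_le hf hdim ha (hX X _ hf).1 (hX X _ hf).2

end ModTorsLib
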